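import Cfsg.Agent.Lib.CentMaxNormal.Basic

/-!
Tools for groups, or normal subgroups, whose noncentral elements all have conjugacy classes of
the same size.
-/

set_option autoImplicit false
set_option linter.style.haveILetI false

open scoped Pointwise

namespace CfsgLib.TwoClassSizes

open CfsgLib.CentMaxNormal

/-- A proper subgroup of a finite group has a conjugate missing some element. -/
theorem eq_top_of_conj_cover {G : Type*} [Group G] [Finite G] {H : Subgroup G}
    (h : ∀ g : G, ∃ x : G, x⁻¹ * g * x ∈ H) : H = ⊤ := by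
  classical
  by_contra hne
  letI := Fintype.ofFinite G
  letI := Fintype.ofFinite (G ⧸ H)
  letI : Fintype (Quotient (MulAction.orbitRel G (G ⧸ H))) := Fintype.ofFinite _
  have key := MulAction.sum_card_fixedBy_eq_card_orbits_mul_card_group G (G ⧸ H)
  haveI : Subsingleton (Quotient (MulAction.orbitRel G (G ⧸ H))) :=
    (MulAction.pretransitive_iff_subsingleton_quotient G (G ⧸ H)).mp inferInstance
  have h1 : Fintype.card (Quotient (MulAction.orbitRel G (G ⧸ H))) ≤ 1 :=
    Fintype.card_le_one_iff_subsingleton.mpr inferInstance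
  have h2 : ∑ _g : G, 1 < ∑ g : G, Fintype.card (MulAction.fixedBy (G ⧸ H) g) := by
    refine Finset.sum_lt_sum (fun g _ => ?_) ⟨1, Finset.mem_univ _, ?_⟩
    · obtain ⟨x, hx⟩ := h g
      refine Fintype.card_pos_iff.mpr ⟨⟨(x : G ⧸ H), ?_⟩⟩
      show g • (x : G ⧸ H) = x
      rw [MulAction.Quotient.smul_coe, smul_eq_mul]
      refine QuotientGroup.eq.mpr ?_
      have := H.inv_mem hx
      simpa [mul_assoc] using this
    · have : 1 < H.index := Subgroup.one_lt_index_of_ne_top hne
      rw [Subgroup.index_eq_card] at this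
      calc 1 < Nat.card (G ⧸ H) := this
        _ = Fintype.card (MulAction.fixedBy (G ⧸ H) (1 : G)) := by
          rw [Nat.card_eq_fintype_card]
          exact Fintype.card_congr
            ((Equiv.subtypeUnivEquiv fun x => MulAction.mem_fixedBy.mpr (one_smul G x)).symm)
  rw [Finset.sum_const, Finset.card_univ, smul_eq_mul, mul_one, key] at h2
  nlinarith

variable {G : Type*} [Group G]

/-- Membership in the centralizer of a conjugate. -/
theorem mem_cen_conj {g x y : G} : y ∈ cen (g * x * g⁻¹) ↔ g⁻¹ * y * g ∈ cen x := by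
  constructor
  · intro h
    rw [mem_cen] at h ⊢
    calc g⁻¹ * y * g * x = g⁻¹ * (y * (g * x * g⁻¹)) * g := by group
      _ = g⁻¹ * (g * x * g⁻¹ * y) * g := by rw [h]
      _ = x * (g⁻¹ * y * g) := by group
  · intro h
    rw [mem_cen] at h ⊢
    calc y * (g * x * g⁻¹) = g * (g⁻¹ * y * g * x) * g⁻¹ := by group
      _ = g * (x * (g⁻¹ * y * g)) * g⁻¹ := by rw [h]
      _ = g * x * g⁻¹ * y := by group

theorem map_cen (g x : G) :
    (cen x).map (MulAut.conj g).toMonoidHom = cen (g * x * g⁻¹) := by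
  ext y
  rw [Subgroup.mem_map]
  constructor
  · rintro ⟨z, hz, rfl⟩
    rw [mem_cen_conj]
    simpa [mul_assoc] using hz
  · intro hy
    exact ⟨g⁻¹ * y * g, mem_cen_conj.mp hy, by simp [mul_assoc]⟩

theorem mem_center_conj_iff {g x : G} :
    g * x * g⁻¹ ∈ Subgroup.center G ↔ x ∈ Subgroup.center G := by
  constructor
  · intro h
    have := (Subgroup.center G).mul_mem h (one_mem _)
    have h2 := Subgroup.Normal.conj_mem inferInstance _ h g⁻¹
    simpa [mul_assoc] using h2
  · intro h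
    exact Subgroup.Normal.conj_mem inferInstance _ h g

theorem mem_normalizer_cen {k x : G} :
    k ∈ Subgroup.normalizer ((cen x : Subgroup G) : Set G) ↔ cen (k * x * k⁻¹) = cen x := by
  rw [Subgroup.mem_normalizer_iff]
  constructor
  · intro h
    ext y
    rw [mem_cen_conj, h (k⁻¹ * y * k)]
    simp [mul_assoc]
  · intro h y
    rw [← h, mem_cen_conj (y := k * y * k⁻¹)]
    rw [h]
    simp [mul_assoc]

theorem cen_mul_center {c x : G} (hc : c ∈ Subgroup.center G) : cen (c * x) = cen x := by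
  ext y
  have hcy := Subgroup.mem_center_iff.mp hc y
  rw [mem_cen, mem_cen]
  constructor
  · intro h
    rw [← mul_assoc, hcy, mul_assoc, mul_assoc] at h
    exact mul_left_cancel h
  · intro h
    rw [← mul_assoc, hcy, mul_assoc, h, ← mul_assoc]

theorem cen_eq_top_iff {x : G} : cen x = ⊤ ↔ x ∈ Subgroup.center G := by
  constructor
  · intro h
    exact Subgroup.mem_center_iff.mpr fun g => mem_cen.mp (h ▸ Subgroup.mem_top g : g ∈ cen x)
  · intro h
    exact eq_top_iff.mpr fun g _ => mem_cen.mpr (Subgroup.mem_center_iff.mp h g)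

/-- All noncentral elements of `N` have centralizers of index `m`. -/
def Equi (N : Subgroup G) (m : ℕ) : Prop :=
  ∀ a ∈ N, a ∉ Subgroup.center G → (cen a).index = m

variable [Finite G] {N : Subgroup G} {m : ℕ}

theorem Equi.cen_eq_of_le (h : Equi N m) {a b : G} (ha : a ∈ N) (ha' : a ∉ Subgroup.center G)
    (hb : b ∈ N) (hb' : b ∉ Subgroup.center G) (hle : cen a ≤ cen b) : cen a = cen b := by
  refine Subgroup.eq_of_le_of_card_ge hle (le_of_eq ?_)
  have h1 := Subgroup.card_mul_index (cen a)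
  have h2 := Subgroup.card_mul_index (cen b)
  rw [h a ha ha'] at h1
  rw [h b hb hb'] at h2
  have hm : m ≠ 0 := by rw [← h a ha ha']; exact Subgroup.index_ne_zero_of_finite
  exact mul_right_cancel₀ hm (h2.trans h1.symm)

theorem Equi.coprime_eq (h : Equi N m) {a b : G} (ha : a ∈ N) (ha' : a ∉ Subgroup.center G)
    (hb : b ∈ N) (hb' : b ∉ Subgroup.center G) (hc : Commute a b)
    (hcop : (orderOf a).Coprime (orderOf b)) : cen a = cen b := by
  have h1 := mem_zpowers_mul hc hcop
  have h2 : b ∈ Subgroup.zpowers (a * b) := hc.eq ▸ mem_zpowers_mul hc.symm hcop.symm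
  have hab : a * b ∉ Subgroup.center G := fun h' => ha' ((Subgroup.zpowers_le.mpr h') h1)
  rw [← h.cen_eq_of_le (N.mul_mem ha hb) hab ha ha' (cen_le_cen_of_mem h1),
    h.cen_eq_of_le (N.mul_mem ha hb) hab hb hb' (cen_le_cen_of_mem h2)]

theorem Equi.exists_part (h : Equi N m) {x : G} (hx : x ∈ N) (hx' : x ∉ Subgroup.center G) :
    ∃ a ∈ N, a ∉ Subgroup.center G ∧ cen a = cen x ∧ a ∈ Subgroup.zpowers x ∧
      ∃ p k : ℕ, p.Prime ∧ orderOf a = p ^ k := by
  by_contra hcon
  refine hx' (mem_of_prime_power_parts fun y hy r k hr hyk => ?_)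
  by_contra hy'
  have hyN : y ∈ N := (Subgroup.zpowers_le.mpr hx) hy
  exact hcon ⟨y, hyN, hy',
    (h.cen_eq_of_le hx hx' hyN hy' (cen_le_cen_of_mem hy)).symm, hy, r, k, hr, hyk⟩

/-- `a` is a `p`-element and some noncentral element of `N` of order prime to `p` centralizes it. -/
def Mixed (N : Subgroup G) (a : G) (p : ℕ) : Prop :=
  ∃ w ∈ N, w ∉ Subgroup.center G ∧ w ∈ cen a ∧ ∃ q j : ℕ, q.Prime ∧ q ≠ p ∧ orderOf w = q ^ j

theorem Equi.abelian (h : Equi N m) {a : G} {p k : ℕ} (hp : p.Prime) (ha : a ∈ N)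
    (ha' : a ∉ Subgroup.center G) (hak : orderOf a = p ^ k) (hmix : Mixed N a p) {y : G}
    (hy : y ∈ N) (hya : y ∈ cen a) : cen a ≤ cen y := by
  obtain ⟨w, hw, hw', hwa, q, j, hq, hqp, hwj⟩ := hmix
  have hwa' : cen w = cen a := h.coprime_eq hw hw' ha ha' (mem_cen.mp hwa)
    (by rw [hwj, hak]; exact Nat.Coprime.pow _ _ ((Nat.coprime_primes hq hp).mpr hqp))
  intro g hg
  rw [mem_cen_comm]
  refine mem_of_prime_power_parts fun z hz r i hr hzi => ?_
  rw [mem_cen_comm]
  by_cases hz' : z ∈ Subgroup.center G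
  · exact mem_cen.mpr (Subgroup.mem_center_iff.mp hz' g)
  have hzN : z ∈ N := (Subgroup.zpowers_le.mpr hy) hz
  have hza : z ∈ cen a := (Subgroup.zpowers_le.mpr hya) hz
  have key : cen z = cen a := by
    by_cases hrp : r = p
    · refine (h.coprime_eq hzN hz' hw hw' (mem_cen.mp (hwa'.symm ▸ hza)) ?_).trans hwa'
      rw [hzi, hwj, hrp]
      exact Nat.Coprime.pow _ _ ((Nat.coprime_primes hp hq).mpr hqp.symm)
    · refine h.coprime_eq hzN hz' ha ha' (mem_cen.mp hza) ?_
      rw [hzi, hak]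
      exact Nat.Coprime.pow _ _ ((Nat.coprime_primes hr hp).mpr hrp)
  rw [key]; exact hg

/-- An element outside the centralizer fixes only central elements. -/
theorem Equi.fixed_central (h : Equi N m) {a g w : G} (ha : a ∈ N) (ha' : a ∉ Subgroup.center G)
    (hab : ∀ y ∈ N, y ∈ cen a → cen a ≤ cen y) (hg : g ∉ cen a) (hw : w ∈ N) (hwa : w ∈ cen a)
    (hgw : g ∈ cen w) : w ∈ Subgroup.center G := by
  by_contra hw'
  exact hg ((h.cen_eq_of_le ha ha' hw hw' (hab w hw hwa)).symm ▸ hgw)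

/-- A `p`-subgroup normalizing nothing: some element is central modulo the centre, of order `p`
there. -/
theorem exists_central_mod {p : ℕ} [Fact p.Prime] {P : Subgroup G} (hP : IsPGroup p P)
    (hPZ : ¬ P ≤ Subgroup.center G) :
    ∃ x ∈ P, x ∉ Subgroup.center G ∧ x ^ p ∈ Subgroup.center G ∧
      ∀ u ∈ P, ∃ c ∈ Subgroup.center G, u * x * u⁻¹ = c * x := by
  set π := QuotientGroup.mk' (Subgroup.center G)
  have hπ : ∀ y, π y = 1 ↔ y ∈ Subgroup.center G := fun y => QuotientGroup.eq_one_iff y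
  haveI : Nontrivial (P.map π) := by
    rw [Subgroup.nontrivial_iff_ne_bot, Ne, Subgroup.map_eq_bot_iff, QuotientGroup.ker_mk']
    exact hPZ
  have hPm : IsPGroup p (P.map π) := hP.map π
  haveI := hPm.center_nontrivial
  haveI := Fintype.ofFinite (Subgroup.center (P.map π))
  obtain ⟨k, hk⟩ := (hPm.to_subgroup (Subgroup.center (P.map π))).exists_card_eq
  have hdvd : p ∣ Nat.card (Subgroup.center (P.map π)) := by
    rw [hk]
    refine dvd_pow_self p fun hk0 => ?_
    rw [hk0, pow_zero] at hk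
    exact absurd (Finite.one_lt_card (α := Subgroup.center (P.map π))) (by omega)
  obtain ⟨⟨⟨_, x, hx, rfl⟩, hc⟩, ho⟩ := exists_prime_orderOf_dvd_card' p hdvd
  have ho' : orderOf (π x) = p := by
    rw [← ho, ← Subgroup.orderOf_coe, ← Subgroup.orderOf_coe]
  refine ⟨x, hx, fun hxc => ?_, ?_, fun u hu => ?_⟩
  · rw [(hπ x).mpr hxc, orderOf_one] at ho'
    exact (Fact.out : p.Prime).one_lt.ne ho'
  · rw [← hπ, map_pow, ← ho', pow_orderOf_eq_one]
  · refine ⟨u * x * u⁻¹ * x⁻¹, (hπ _).mp ?_, by group⟩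
    have := congrArg Subtype.val
      (Subgroup.mem_center_iff.mp hc ⟨π u, Subgroup.mem_map_of_mem π hu⟩)
    simp only [Subgroup.coe_mul] at this
    simp only [map_mul, map_inv]
    rw [this]; group

theorem pow_mem_cen_of_central_mod {p : ℕ} {x u c : G} (hc : c ∈ Subgroup.center G)
    (hu : u * x * u⁻¹ = c * x) (hxp : x ^ p ∈ Subgroup.center G) : u ^ p ∈ cen x := by
  have hcx : Commute c x := (Subgroup.mem_center_iff.mp hc x).symm
  have hcp : c ^ p = 1 := by
    have h1 : (c * x) ^ p = x ^ p := by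
      rw [← hu, conj_pow, Subgroup.mem_center_iff.mp hxp u, mul_inv_cancel_right]
    rw [hcx.mul_pow] at h1
    exact mul_eq_right.mp h1
  have key : ∀ i : ℕ, u ^ i * x * (u ^ i)⁻¹ = c ^ i * x := by
    intro i
    induction i with
    | zero => simp
    | succ i ih =>
      calc u ^ (i + 1) * x * (u ^ (i + 1))⁻¹ = u * (u ^ i * x * (u ^ i)⁻¹) * u⁻¹ := by
            rw [pow_succ']; group
        _ = u * c ^ i * x * u⁻¹ := by rw [ih]; group
        _ = c ^ i * (u * x * u⁻¹) := by
            rw [Subgroup.mem_center_iff.mp (Subgroup.pow_mem _ hc i) u]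
            group
        _ = c ^ (i + 1) * x := by rw [hu, ← mul_assoc, pow_succ]
  have := key p
  rw [hcp, one_mul] at this
  rw [mem_cen]
  exact mul_inv_eq_iff_eq_mul.mp this

/-- A noncentral centralizer is normalized by the elements centralizing `x` modulo the centre. -/
theorem mem_normalizer_of_central_mod {x u c : G} (hc : c ∈ Subgroup.center G)
    (hu : u * x * u⁻¹ = c * x) : u ∈ Subgroup.normalizer ((cen x : Subgroup G) : Set G) := by
  rw [mem_normalizer_cen, hu, cen_mul_center hc]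

/-- Conjugate a centralizer so that it meets a Sylow subgroup in a Sylow subgroup. -/
theorem exists_conj_inf (p : ℕ) [Fact p.Prime] (P : Sylow p G) (x : G) :
    ∃ g : G, p ^ (Nat.card (cen x)).factorization p ≤
      Nat.card ↥(cen (g * x * g⁻¹) ⊓ (P : Subgroup G)) := by
  obtain ⟨T⟩ := (inferInstance : Nonempty (Sylow p (cen x)))
  have hT : IsPGroup p ((T : Subgroup (cen x)).map (cen x).subtype) := T.2.map _
  obtain ⟨Q, hQ⟩ := hT.exists_le_sylow
  obtain ⟨g, hg⟩ := MulAction.exists_smul_eq G Q P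
  refine ⟨g, ?_⟩
  let f := (MulAut.conj g).toMonoidHom
  have hle : ((T : Subgroup (cen x)).map (cen x).subtype).map f ≤
      cen (g * x * g⁻¹) ⊓ (P : Subgroup G) := by
    refine le_inf ?_ ?_
    · rw [← map_cen]
      exact Subgroup.map_mono (Subgroup.map_subtype_le _)
    · rintro _ ⟨y, hy, rfl⟩
      rw [← hg, Sylow.coe_subgroup_smul]
      exact Subgroup.smul_mem_pointwise_smul y (MulAut.conj g) _ (hQ hy)
  refine le_trans (le_of_eq ?_) (Subgroup.card_le_of_le hle)
  rw [Subgroup.card_map_of_injective (MulAut.conj g).injective,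
    Subgroup.card_map_of_injective (Subgroup.subtype_injective _), T.card_eq_multiplicity]

theorem card_inf_le_ordProj {p : ℕ} [Fact p.Prime] {H P : Subgroup G} (hP : IsPGroup p P) :
    Nat.card ↥(H ⊓ P) ≤ p ^ (Nat.card H).factorization p := by
  obtain ⟨k, hk⟩ := (hP.to_le (inf_le_right : H ⊓ P ≤ P)).exists_card_eq
  have hd : p ^ k ∣ Nat.card H := hk ▸ Subgroup.card_dvd_of_le inf_le_left
  rw [hk]
  exact Nat.pow_le_pow_right (Fact.out : p.Prime).pos
    (((Fact.out : p.Prime).pow_dvd_iff_le_factorization Nat.card_pos.ne').mp hd)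

/-- The norm identity for two commuting automorphisms of order dividing `p`. -/
theorem pow_mem_of_norms {W : Type*} [CommGroup W] {p : ℕ} (hp : p.Prime) (U V : MulAut W)
    (hU : U ^ p = 1) (hV : V ^ p = 1) (hUV : Commute U V) (C : Subgroup W)
    (h1 : ∀ j : ℕ, ∀ w : W, (U * V ^ j) w = w → w ∈ C) (h2 : ∀ w : W, V w = w → w ∈ C)
    (w : W) : w ^ p ∈ C := by
  obtain ⟨n, rfl⟩ : ∃ n, p = n + 1 := ⟨p - 1, (Nat.succ_pred_eq_of_pos hp.pos).symm⟩
  have hnorm : ∀ g : MulAut W, g ^ (n + 1) = 1 → ∀ v : W,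
      g (∏ i ∈ Finset.range (n + 1), (g ^ i) v) = ∏ i ∈ Finset.range (n + 1), (g ^ i) v := by
    intro g hg v
    rw [map_prod, Finset.prod_range_succ, Finset.prod_range_succ' (fun i => (g ^ i) v)]
    simp only [← MulAut.mul_apply, ← pow_succ', hg, pow_zero]
  have hS : ∀ k : ℕ, ¬ (n + 1) ∣ k → ∀ v : W,
      ∏ j ∈ Finset.range (n + 1), (V ^ (j * k)) v = ∏ j ∈ Finset.range (n + 1), (V ^ j) v := by
    intro k hk v
    have hinj : Set.InjOn (fun j => j * k % (n + 1)) (Finset.range (n + 1) : Set ℕ) := by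
      intro a ha b hb hab
      simp only [Finset.coe_range, Set.mem_Iio] at ha hb
      have hcop : Nat.gcd (n + 1) k = 1 := (hp.coprime_iff_not_dvd.mpr hk)
      have : a ≡ b [MOD (n + 1)] := Nat.ModEq.cancel_right_of_coprime hcop hab
      exact Nat.ModEq.eq_of_lt_of_lt this ha hb
    have himg : (Finset.range (n + 1)).image (fun j => j * k % (n + 1)) = Finset.range (n + 1) := by
      refine Finset.eq_of_subset_of_card_le (fun x hx => ?_) ?_
      · obtain ⟨j, -, rfl⟩ := Finset.mem_image.mp hx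
        exact Finset.mem_range.mpr (Nat.mod_lt _ n.succ_pos)
      · rw [Finset.card_image_of_injOn hinj]
    conv_rhs => rw [← himg, Finset.prod_image hinj]
    refine Finset.prod_congr rfl fun j _ => ?_
    rw [← pow_eq_pow_mod _ hV]
  set S := ∏ j ∈ Finset.range (n + 1), (V ^ j) w with hSdef
  have hSC : S ∈ C := h2 _ (hnorm V hV w)
  have hT : ∏ i ∈ Finset.range (n + 1), (U ^ i) S ∈ C :=
    h1 0 _ (by rw [pow_zero, mul_one]; exact hnorm U hU S)
  have hL : ∏ j ∈ Finset.range (n + 1), ∏ i ∈ Finset.range (n + 1), ((U * V ^ j) ^ i) w ∈ C := by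
    refine Subgroup.prod_mem _ fun j _ => h1 j _ (hnorm _ ?_ w)
    rw [(hUV.pow_right j).mul_pow, hU, ← pow_mul, mul_comm, pow_mul, hV, one_pow, one_mul]
  rw [Finset.prod_comm, Finset.prod_range_succ'] at hL
  rw [Finset.prod_range_succ', pow_zero, MulAut.one_apply] at hT
  have heq : ∀ i ∈ Finset.range n,
      ∏ j ∈ Finset.range (n + 1), ((U * V ^ j) ^ (i + 1)) w = (U ^ (i + 1)) S := by
    intro i hi
    rw [hSdef, ← hS (i + 1) (Nat.not_dvd_of_pos_of_lt i.succ_pos
      (by have := Finset.mem_range.mp hi; omega)) w, map_prod]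
    refine Finset.prod_congr rfl fun j _ => ?_
    rw [(hUV.pow_right j).mul_pow, ← pow_mul, MulAut.mul_apply]
  rw [Finset.prod_congr rfl heq] at hL
  simp only [pow_zero, MulAut.one_apply, Finset.prod_const, Finset.card_range] at hL
  have h3 : ∏ i ∈ Finset.range n, (U ^ (i + 1)) S ∈ C := by
    have := C.mul_mem hT (C.inv_mem hSC)
    rwa [mul_inv_cancel_right] at this
  have := C.mul_mem (C.inv_mem h3) hL
  rwa [inv_mul_cancel_left] at this

/-- Two independent elements cannot act on an abelian subgroup without fixed points. -/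
theorem pow_mem_center_of_two {p : ℕ} (hp : p.Prime) {V : Subgroup G}
    (hV : ∀ a ∈ V, ∀ b ∈ V, a * b = b * a) {u v : G}
    (hu : u ∈ Subgroup.normalizer (V : Set G)) (hv : v ∈ Subgroup.normalizer (V : Set G))
    (hup : ∀ w ∈ V, u ^ p ∈ cen w) (hvp : ∀ w ∈ V, v ^ p ∈ cen w)
    (hcomm : ∀ w ∈ V, v⁻¹ * u⁻¹ * v * u ∈ cen w)
    (h1 : ∀ j : ℕ, ∀ w ∈ V, u * v ^ j ∈ cen w → w ∈ Subgroup.center G)
    (h2 : ∀ w ∈ V, v ∈ cen w → w ∈ Subgroup.center G) {w : G} (hw : w ∈ V) :
    w ^ p ∈ Subgroup.center G := by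
  letI : CommGroup V :=
    { (inferInstance : Group V) with mul_comm := fun a b => Subtype.ext (hV a a.2 b b.2) }
  let ρ := V.normalizerMonoidHom
  have happ : ∀ (k : Subgroup.normalizer (V : Set G)) (y : V),
      ((ρ k y : V) : G) = (k : G) * y * (k : G)⁻¹ := fun k y => rfl
  have hker : ∀ k : Subgroup.normalizer (V : Set G), (∀ y ∈ V, (k : G) ∈ cen y) → ρ k = 1 := by
    intro k hk
    refine MulEquiv.ext fun y => Subtype.ext ?_
    show ((ρ k y : V) : G) = y
    rw [happ, mem_cen.mp (hk y y.2), mul_inv_cancel_right]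
  have hfix : ∀ (k : Subgroup.normalizer (V : Set G)) (y : V), ρ k y = y → (k : G) ∈ cen (y : G) := by
    intro k y h
    have := congrArg (fun z : V => (z : G)) h
    rw [happ] at this
    exact mem_cen.mpr (mul_inv_eq_iff_eq_mul.mp this)
  have := pow_mem_of_norms hp (ρ ⟨u, hu⟩) (ρ ⟨v, hv⟩)
    (by rw [← map_pow]; exact hker _ (fun y hy => hup y hy))
    (by rw [← map_pow]; exact hker _ (fun y hy => hvp y hy))
    (by
      have h := hker (⟨v, hv⟩⁻¹ * ⟨u, hu⟩⁻¹ * ⟨v, hv⟩ * ⟨u, hu⟩) (fun y hy => hcomm y hy)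
      rw [map_mul, map_mul, map_mul, map_inv, map_inv, mul_assoc, mul_assoc,
        inv_mul_eq_one, eq_inv_mul_iff_mul_eq] at h
      exact h)
    ((Subgroup.center G).subgroupOf V)
    (fun j y hy => by
      rw [← map_pow, ← map_mul] at hy
      exact h1 j y y.2 (hfix _ y hy))
    (fun y hy => h2 y y.2 (hfix _ y hy)) ⟨w, hw⟩
  exact this

/-- A `p`-group normalizing an abelian subgroup `V`, with the quotient by the part fixing `V`
of exponent `p` and fixed-point-free, has this part of index at most `p`. -/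
theorem card_le_mul_of_fixed {p : ℕ} [Fact p.Prime] {P T V : Subgroup G} (hP : IsPGroup p P)
    (hTP : T ≤ P) (hV : ∀ a ∈ V, ∀ b ∈ V, a * b = b * a)
    (hTV : ∀ t ∈ T, ∀ w ∈ V, t ∈ cen w)
    (hPV : P ≤ Subgroup.normalizer (V : Set G)) (hTn : P ≤ Subgroup.normalizer (T : Set G))
    (hexp : ∀ u ∈ P, u ^ p ∈ T)
    (hfix : ∀ u ∈ P, u ∉ T → ∀ w ∈ V, u ∈ cen w → w ∈ Subgroup.center G)
    (hw : ∃ w ∈ V, w ^ p ∉ Subgroup.center G) : Nat.card P ≤ p * Nat.card T := by
  have hp : p.Prime := Fact.out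
  by_contra! hlt
  set T' := T.subgroupOf P
  haveI : T'.Normal := by
    refine ⟨fun t ht u => ?_⟩
    rw [Subgroup.mem_subgroupOf] at ht ⊢
    simpa using (Subgroup.mem_normalizer_iff.mp (hTn u.2) t).mp ht
  have hcard : Nat.card T' = Nat.card T := Nat.card_congr (Subgroup.subgroupOfEquivOfLe hTP).toEquiv
  have hQ : IsPGroup p (P ⧸ T') := hP.to_quotient T'
  have hQc : p < Nat.card (P ⧸ T') := by
    have := Subgroup.card_eq_card_quotient_mul_card_subgroup T'
    rw [hcard] at this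
    by_contra! hle
    rw [this] at hlt
    exact absurd hlt (not_lt.mpr (Nat.mul_le_mul_right _ hle))
  haveI : Nontrivial (P ⧸ T') := Finite.one_lt_card_iff_nontrivial.mp (hp.one_lt.trans hQc)
  haveI := hQ.center_nontrivial
  obtain ⟨⟨u0, hu0c⟩, hu0⟩ := exists_ne (1 : Subgroup.center (P ⧸ T'))
  have hexpQ : ∀ y : P ⧸ T', y ^ p = 1 := by
    intro y
    obtain ⟨y, rfl⟩ := QuotientGroup.mk_surjective y
    rw [← QuotientGroup.mk_pow, QuotientGroup.eq_one_iff, Subgroup.mem_subgroupOf]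
    exact hexp y y.2
  obtain ⟨v0, hv⟩ : ∃ v0, v0 ∉ Subgroup.zpowers u0 := by
    by_contra! hall
    have htop : Subgroup.zpowers u0 = ⊤ := eq_top_iff.mpr fun y _ => hall y
    have h1 : orderOf u0 ≤ p := Nat.le_of_dvd hp.pos (orderOf_dvd_of_pow_eq_one (hexpQ u0))
    rw [← Nat.card_zpowers, htop, Subgroup.card_top] at h1
    omega
  obtain ⟨u, rfl⟩ := QuotientGroup.mk_surjective u0
  obtain ⟨v, rfl⟩ := QuotientGroup.mk_surjective v0
  have hvT : v ∉ T' := fun h' => hv ((QuotientGroup.eq_one_iff v).mpr h' ▸ one_mem _)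
  have huv : ∀ j : ℕ, u * v ^ j ∉ T' := by
    intro j h'
    rw [← QuotientGroup.eq_one_iff, QuotientGroup.mk_mul, QuotientGroup.mk_pow,
      mul_eq_one_iff_inv_eq] at h'
    by_cases hj : p ∣ j
    · obtain ⟨i, rfl⟩ := hj
      rw [pow_mul, hexpQ, one_pow, inv_eq_one] at h'
      exact hu0 (Subtype.ext h')
    · refine hv ?_
      obtain ⟨e, he⟩ := exists_pow_eq_self_of_coprime (x := (v : P ⧸ T')) (n := j)
        ((Nat.Coprime.symm (hp.coprime_iff_not_dvd.mpr hj)).coprime_dvd_right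
          (orderOf_dvd_of_pow_eq_one (hexpQ _)))
      rw [← he, ← h']
      exact Subgroup.pow_mem _ (Subgroup.inv_mem _ (Subgroup.mem_zpowers _)) e
  obtain ⟨w, hwV, hwp⟩ := hw
  refine hwp (pow_mem_center_of_two hp hV (hPV u.2) (hPV v.2)
    (fun y hy => hTV _ (hexp u u.2) y hy) (fun y hy => hTV _ (hexp v v.2) y hy) ?_ ?_ ?_ hwV)
  · intro y hy
    refine hTV _ ?_ y hy
    have h' : ((v⁻¹ * u⁻¹ * v * u : P) : P ⧸ T') = 1 := by
      simp only [QuotientGroup.mk_mul, QuotientGroup.mk_inv]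
      rw [mul_assoc, mul_assoc, Subgroup.mem_center_iff.mp hu0c (v : P ⧸ T')]
      group
    have h'' := (QuotientGroup.eq_one_iff (N := T') _).mp h'
    simpa [T', Subgroup.mem_subgroupOf] using h''
  · intro j y hy h'
    exact hfix _ (P.mul_mem u.2 (P.pow_mem v.2 j)) (fun h'' => huv j h'') y hy h'
  · intro y hy h'
    exact hfix _ v.2 (fun h'' => hvT h'') y hy h'

end CfsgLib.TwoClassSizes
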