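import Cfsg.Agent.Lib.TwoClassSizes.NormalMain

/-!
Completion: a normal subgroup containing a noncentral Sylow `r`-subgroup, whose noncentral elements
have one class size, is an `r`-group modulo its centre.
-/

set_option autoImplicit false
set_option linter.style.haveILetI false

open scoped Pointwise

namespace CfsgLib.TwoClassSizes

open CfsgLib.CentMaxNormal

variable {G : Type*} [Group G] [Finite G] {r : ℕ} [Fact r.Prime] {N : Subgroup G} [N.Normal]
  {m : ℕ} (R : Sylow r G)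

omit [Fact r.Prime] [N.Normal] [Finite G] in
theorem inv_conj_eq {t x c : G} (hc : c ∈ Subgroup.center G) (h : t * x * t⁻¹ = c * x) :
    x * t * x⁻¹ = c⁻¹ * t := by
  have h1 : t * x = c * x * t := by rw [← h]; group
  have h2 : c⁻¹ * (t * x) * x⁻¹ = x * t * x⁻¹ := by rw [h1]; group
  rw [← h2]
  group

/-- The Sylow parts of the centralizers are small modulo the centre. -/
theorem tau_le (hE : Equi N m) (hRN : (R : Subgroup G) ≤ N) (hrm : r ∣ m) {τ : ℕ}
    (hτ : ∀ a ∈ N, a ∉ Subgroup.center G → r ^ (Nat.card (cen a)).factorization r = τ) {x : G}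
    (hx : x ∈ (R : Subgroup G)) (hxZ : x ∉ Subgroup.center G) (hxr : x ^ r ∈ Subgroup.center G)
    (hxc : ∀ u ∈ (R : Subgroup G), ∃ c ∈ Subgroup.center G, u * x * u⁻¹ = c * x)
    {w : G} {q j : ℕ} (hq : q.Prime) (hqr : q ≠ r) (hwN : w ∈ N) (hw : w ∉ Subgroup.center G)
    (hwj : orderOf w = q ^ j) :
    τ ≤ r * Nat.card ↥(Subgroup.center G ⊓ (R : Subgroup G)) := by
  have hr : r.Prime := Fact.out
  set Z := Subgroup.center G
  by_cases hmix : Mixed N x r
  · exact (mixed_bound R hE hRN hrm hτ hx hxZ hxr hxc hmix).2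
  by_contra! hlt
  set Zr := Z ⊓ (R : Subgroup G) with hZr
  -- a noncentral element of `R` with the centralizer of a `q`-element
  obtain ⟨g, hg⟩ := exists_conj_inf r R w
  rw [hτ w hwN hw] at hg
  set w' := g * w * g⁻¹
  have hw'o : orderOf w' = q ^ j := (MulEquiv.orderOf_eq (MulAut.conj g) w).trans hwj
  have hw'N : w' ∈ N := Subgroup.Normal.conj_mem inferInstance _ hwN g
  have hw'Z : w' ∉ Z := fun h => hw (mem_center_conj_iff.mp h)
  obtain ⟨y₀, hy₀T, hy₀Z⟩ : ∃ y ∈ cen w' ⊓ (R : Subgroup G), y ∉ Z := by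
    by_contra! hall
    have := Subgroup.card_le_of_le (show cen w' ⊓ (R : Subgroup G) ≤ Zr from fun z hz => ⟨hall z hz, hz.2⟩)
    have h2 := hr.two_le
    have : Nat.card Zr ≤ r * Nat.card Zr := Nat.le_mul_of_pos_left _ hr.pos
    omega
  have hy₀R : y₀ ∈ (R : Subgroup G) := hy₀T.2
  obtain ⟨i₀, hi₀⟩ := IsPGroup.iff_orderOf.mp R.2 ⟨y₀, hy₀R⟩
  rw [← Subgroup.orderOf_coe] at hi₀
  have hcy : cen y₀ = cen w' := by
    refine hE.coprime_eq (hRN hy₀R) hy₀Z hw'N hw'Z (mem_cen.mp hy₀T.1) ?_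
    rw [hi₀, hw'o]; exact Nat.Coprime.pow _ _ ((Nat.coprime_primes hr hq).mpr hqr.symm)
  have hw'y : w' ∈ cen y₀ := hcy ▸ self_mem_cen w'
  have hmixy : Mixed N y₀ r := ⟨w', hw'N, hw'Z, hw'y, q, j, hq, hqr, hw'o⟩
  have hab : ∀ v ∈ N, v ∈ cen y₀ → cen y₀ ≤ cen v := fun v hv hvy =>
    hE.abelian hr (hRN hy₀R) hy₀Z hi₀ hmixy hv hvy
  have hyc : ∀ v ∈ N, v ∉ Z → v ∈ cen y₀ → cen v = cen y₀ := fun v hv hvZ hvy =>
    (hE.cen_eq_of_le (hRN hy₀R) hy₀Z hv hvZ (hab v hv hvy)).symm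
  set T₀ := cen y₀ ⊓ (R : Subgroup G) with hT₀
  have hT₀τ : τ ≤ Nat.card T₀ := by rw [hT₀, hcy]; exact hg
  have hxy : x ∉ cen y₀ := fun h => hmix ⟨w', hw'N, hw'Z, by
    rw [hyc x (hRN hx) hxZ h]; exact hw'y, q, j, hq, hqr, hw'o⟩
  have hT₀pow : ∀ t ∈ T₀, t ^ r ∈ Z := by
    intro t ht
    by_contra htr
    obtain ⟨c, hc, hct⟩ := hxc t ht.2
    refine hxy ?_
    rw [← hyc (t ^ r) (N.pow_mem (hRN ht.2) r) htr ((cen y₀).pow_mem ht.1 r), mem_cen_comm]
    exact pow_mem_cen_of_central_mod hc hct hxr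
  -- the element `s`
  set π := QuotientGroup.mk' Z with hπ
  have hπ1 : ∀ y : G, π y = 1 ↔ y ∈ Z := fun y => QuotientGroup.eq_one_iff y
  set B := (Subgroup.zpowers (π x)).comap π ⊓ (R : Subgroup G) with hB
  have hxB : x ∈ B := ⟨Subgroup.mem_zpowers (π x), hx⟩
  have hπx : orderOf (π x) ≤ r := Nat.le_of_dvd hr.pos
    (orderOf_dvd_of_pow_eq_one (by rw [← map_pow]; exact (hπ1 _).mpr hxr))
  have hBcard : Nat.card B ≤ r * Nat.card Zr := by
    rw [← card_inf_mul_card_map (K := Z) B, mul_comm r]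
    refine Nat.mul_le_mul (Subgroup.card_le_of_le
      (le_inf inf_le_right (inf_le_left.trans inf_le_right) : B ⊓ Z ≤ Zr)) ?_
    refine le_trans ?_ hπx
    rw [← Nat.card_zpowers]
    refine Subgroup.card_le_of_le ?_
    rintro _ ⟨b, hb, rfl⟩
    exact hb.1
  have hxnorm : (R : Subgroup G) ≤ Subgroup.normalizer ((cen x : Subgroup G) : Set G) := fun u hu => by
    obtain ⟨c, hc, hcu⟩ := hxc u hu
    exact mem_normalizer_of_central_mod hc hcu
  set A := cen x ⊓ (R : Subgroup G) with hA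
  have hAτ : τ ≤ Nat.card A := hτ x (hRN hx) hxZ ▸ ordProj_le_card_inf R hxnorm
  have hAB : ¬ A ≤ B := fun h => by have := Subgroup.card_le_of_le h; omega
  set B' := B.subgroupOf (R : Subgroup G)
  haveI : B'.Normal := by
    refine ⟨fun b hb u => ?_⟩
    rw [Subgroup.mem_subgroupOf] at hb ⊢
    refine ⟨?_, (u * b * u⁻¹).2⟩
    obtain ⟨e, he⟩ := Subgroup.mem_zpowers_iff.mp hb.1
    obtain ⟨c, hc, hcu⟩ := hxc u u.2
    refine Subgroup.mem_zpowers_iff.mpr ⟨e, ?_⟩
    have hπu : π u * π x * (π u)⁻¹ = π x := by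
      rw [← map_inv, ← map_mul, ← map_mul, hcu, map_mul, (hπ1 c).mpr hc, one_mul]
    push_cast
    rw [map_mul, map_mul, map_inv, ← he, ← conj_zpow, hπu]
  set A' := A.subgroupOf (R : Subgroup G)
  haveI : A'.Normal := by
    refine ⟨fun a ha u => ?_⟩
    rw [Subgroup.mem_subgroupOf] at ha ⊢
    refine ⟨?_, (u * a * u⁻¹).2⟩
    simpa using (Subgroup.mem_normalizer_iff.mp (hxnorm u.2) a).mp ha.1
  haveI hQn : Group.IsNilpotent ((R : Subgroup G) ⧸ B') := (R.2.to_quotient B').isNilpotent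
  haveI : (A'.map (QuotientGroup.mk' B')).Normal :=
    Subgroup.Normal.map inferInstance _ (QuotientGroup.mk'_surjective B')
  have hne : A'.map (QuotientGroup.mk' B') ≠ ⊥ := by
    rw [Ne, Subgroup.map_eq_bot_iff, QuotientGroup.ker_mk']
    exact fun h => hAB fun a ha => h (x := ⟨a, ha.2⟩) ha
  obtain ⟨⟨e, he⟩, he1⟩ := Subgroup.ne_bot_iff_exists_ne_one.mp
    (CfsgLib.Critical.inf_center_ne_bot _ hne)
  obtain ⟨⟨s', hs'A, rfl⟩, hec⟩ := he
  set s := (s' : G)
  have hsR : s ∈ (R : Subgroup G) := s'.2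
  have hsA : s ∈ cen x := hs'A.1
  have hsB : s ∉ B := fun h => he1 (Subtype.ext ((QuotientGroup.eq_one_iff s').mpr h))
  have hscomm : ∀ t ∈ (R : Subgroup G), π (s * t * s⁻¹ * t⁻¹) ∈ Subgroup.zpowers (π x) := by
    intro t ht
    have h1 := Subgroup.mem_center_iff.mp hec (QuotientGroup.mk' B' ⟨t, ht⟩)
    have h2 : s' * ⟨t, ht⟩ * s'⁻¹ * (⟨t, ht⟩ : (R : Subgroup G))⁻¹ ∈ B' := by
      rw [← QuotientGroup.eq_one_iff, ← QuotientGroup.mk'_apply, map_mul, map_mul, map_mul, map_inv,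
        map_inv, ← h1]
      group
    exact h2.1
  obtain ⟨t₁, ht₁, ht₁Z, ht₁c⟩ : ∃ t ∈ T₀, t ∉ Z ∧ π (s * t * s⁻¹) = π t := by
    by_contra! hall
    have hcardmap : r < Nat.card (T₀.map π) := by
      have h1 := card_inf_mul_card_map (K := Z) T₀
      by_contra! hle
      have : Nat.card T₀ ≤ Nat.card Zr * r := h1 ▸ Nat.mul_le_mul (Subgroup.card_le_of_le
        (le_inf inf_le_right (inf_le_left.trans inf_le_right) : T₀ ⊓ Z ≤ Zr)) hle
      rw [mul_comm] at this
      omega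
    let f : T₀.map π → Subgroup.zpowers (π x) := fun e => ⟨π s * e.1 * (π s)⁻¹ * e.1⁻¹, by
      obtain ⟨_, t, ht, rfl⟩ := e
      simpa only [map_mul, map_inv] using hscomm t ht.2⟩
    have hinj : Function.Injective f := by
      rintro ⟨_, t, ht, rfl⟩ ⟨_, t', ht', rfl⟩ hff
      refine Subtype.ext ?_
      by_contra hne'
      have hff' : π s * π t * (π s)⁻¹ * (π t)⁻¹ = π s * π t' * (π s)⁻¹ * (π t')⁻¹ :=
        congrArg Subtype.val hff
      refine hall (t⁻¹ * t') (T₀.mul_mem (T₀.inv_mem ht) ht') (fun hz => hne' ?_) ?_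
      · have := (hπ1 _).mpr hz
        rw [map_mul, map_inv, inv_mul_eq_one] at this
        exact this
      · simp only [map_mul, map_inv]
        calc π s * ((π t)⁻¹ * π t') * (π s)⁻¹
            = (π t)⁻¹ * (π s * π t * (π s)⁻¹ * (π t)⁻¹)⁻¹ *
              ((π s * π t' * (π s)⁻¹ * (π t')⁻¹) * π t') := by group
          _ = (π t)⁻¹ * π t' := by rw [hff']; group
    have := Nat.card_le_card_of_injective f hinj
    rw [Nat.card_zpowers] at this
    omega
  set c₁ := s * t₁ * s⁻¹ * t₁⁻¹ with hc₁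
  have hc₁Z : c₁ ∈ Z := by
    rw [← hπ1, hc₁, map_mul, ht₁c, ← map_mul, mul_inv_cancel, map_one]
  have hst : s * t₁ * s⁻¹ = c₁ * t₁ := by rw [hc₁]; group
  have ht₁y : cen t₁ = cen y₀ := hyc t₁ (hRN ht₁.2) ht₁Z ht₁.1
  have hsn : s ∈ Subgroup.normalizer ((cen y₀ : Subgroup G) : Set G) :=
    ht₁y ▸ mem_normalizer_of_central_mod hc₁Z hst
  have hxn : x ∈ Subgroup.normalizer ((cen y₀ : Subgroup G) : Set G) := by
    obtain ⟨c, hc, hct⟩ := hxc y₀ hy₀R
    exact mem_normalizer_of_central_mod (Z.inv_mem hc) (inv_conj_eq hc hct)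
  have hnormN : ∀ u : G, u ∈ Subgroup.normalizer ((cen y₀ : Subgroup G) : Set G) →
      u ∈ Subgroup.normalizer ((cen y₀ ⊓ N : Subgroup G) : Set G) := by
    intro u hu
    refine Subgroup.mem_normalizer_iff.mpr fun y => ?_
    have h1 := Subgroup.mem_normalizer_iff.mp hu y
    constructor
    · exact fun h => ⟨h1.mp h.1, Subgroup.Normal.conj_mem inferInstance _ h.2 u⟩
    · intro h
      have := Subgroup.Normal.conj_mem inferInstance _ h.2 u⁻¹
      rw [show u⁻¹ * (u * y * u⁻¹) * u⁻¹⁻¹ = y by group] at this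
      exact ⟨h1.mpr h.1, this⟩
  have houtside : ∀ j : ℕ, s * x ^ j ∉ cen y₀ := by
    intro j hj
    have hR' : s * x ^ j ∈ (R : Subgroup G) := R.1.mul_mem hsR (R.1.pow_mem hx j)
    by_cases hZ' : s * x ^ j ∈ Z
    · refine hsB ?_
      have h1 : s * x ^ j ∈ B := ⟨by
        show π (s * x ^ j) ∈ Subgroup.zpowers (π x)
        rw [(hπ1 _).mpr hZ']; exact one_mem _, hR'⟩
      have := B.mul_mem h1 (B.inv_mem (B.pow_mem hxB j))
      rwa [mul_inv_cancel_right] at this
    · refine hxy ?_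
      rw [← hyc _ (hRN hR') hZ' hj, mem_cen_comm]
      exact (cen x).mul_mem hsA ((cen x).pow_mem (self_mem_cen x) j)
  have hVfix : ∀ u : G, u ∉ cen y₀ → ∀ v ∈ cen y₀ ⊓ N, u ∈ cen v → v ∈ Z := fun u hu v hv huv =>
    hE.fixed_central (hRN hy₀R) hy₀Z hab hu hv.2 hv.1 huv
  have hwr : w' ^ r ∈ Z := by
    refine pow_mem_center_of_two hr (V := cen y₀ ⊓ N) (u := s) (v := x)
      (fun a ha b hb => mem_cen.mp (hab b hb.2 hb.1 ha.1)) (hnormN s hsn) (hnormN x hxn)
      (fun v hv => hab v hv.2 hv.1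
        (ht₁y ▸ pow_mem_cen_of_central_mod hc₁Z hst (hT₀pow t₁ ht₁)))
      (fun v _ => center_le_cen v hxr) (fun v _ => ?_)
      (fun j v hv h => hVfix _ (houtside j) v hv h) (fun v hv h => hVfix _ hxy v hv h)
      ⟨hw'y, hw'N⟩
    have hsx := mem_cen.mp hsA
    rw [show x⁻¹ * s⁻¹ * x * s = (s * x)⁻¹ * (x * s) by group, hsx, inv_mul_cancel]
    exact one_mem _
  have hcop : r.Coprime (orderOf w') := by
    rw [hw'o]; exact Nat.Coprime.pow_right _ ((Nat.coprime_primes hr hq).mpr hqr.symm)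
  obtain ⟨e', he'⟩ := exists_pow_eq_self_of_coprime hcop
  exact hw'Z (he' ▸ Z.pow_mem hwr e')

omit [N.Normal] in
/-- An element of `R` whose centralizer meets `R` in a group of order `r` modulo the centre. -/
theorem cen_inf_central {y : G} (hy : y ∈ (R : Subgroup G)) (hyZ : y ∉ Subgroup.center G)
    (hle : Nat.card ↥(cen y ⊓ (R : Subgroup G)) ≤
      r * Nat.card ↥(Subgroup.center G ⊓ (R : Subgroup G))) :
    y ^ r ∈ Subgroup.center G ∧
      ∀ t ∈ cen y ⊓ (R : Subgroup G),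
        QuotientGroup.mk' (Subgroup.center G) t ∈
          Subgroup.zpowers (QuotientGroup.mk' (Subgroup.center G) y) := by
  have hr : r.Prime := Fact.out
  set Z := Subgroup.center G
  set π := QuotientGroup.mk' Z
  set T := cen y ⊓ (R : Subgroup G)
  have hcard : Nat.card (T.map π) ≤ r := by
    have h1 := card_inf_mul_card_map (K := Z) T
    have h2 : Nat.card ↥(Z ⊓ (R : Subgroup G)) ≤ Nat.card ↥(T ⊓ Z) := Subgroup.card_le_of_le
      fun z hz => ⟨⟨center_le_cen y hz.1, hz.2⟩, hz.1⟩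
    refine Nat.le_of_mul_le_mul_left ?_ (Nat.card_pos (α := ↥(T ⊓ Z)))
    rw [h1]
    exact hle.trans (by rw [mul_comm]; exact Nat.mul_le_mul_right _ h2)
  obtain ⟨i, hi⟩ := ((R.2.to_le (inf_le_right : T ≤ R)).map π).exists_card_eq
  have hyT : π y ∈ T.map π := Subgroup.mem_map_of_mem π ⟨self_mem_cen y, hy⟩
  have hord : orderOf (π y) ∣ Nat.card (T.map π) :=
    Subgroup.orderOf_dvd_natCard _ hyT
  have hy1 : orderOf (π y) ≠ 1 := fun h => hyZ ((QuotientGroup.eq_one_iff y).mp (orderOf_eq_one_iff.mp h))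
  have hir : i = 1 := by
    rcases Nat.lt_or_ge i 1 with h | h
    · rw [hi, Nat.lt_one_iff.mp h, pow_zero] at hord
      exact absurd (Nat.dvd_one.mp hord) hy1
    · have h2 : r ^ i ≤ r ^ 1 := by rw [pow_one]; exact hi ▸ hcard
      exact le_antisymm ((Nat.pow_le_pow_iff_right hr.one_lt).mp h2) h
  rw [hi, hir, pow_one] at hord
  refine ⟨(QuotientGroup.eq_one_iff _).mp ?_, fun t ht => ?_⟩
  · show π (y ^ r) = 1
    rw [map_pow]
    exact orderOf_dvd_iff_pow_eq_one.mp hord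
  · have heq : Subgroup.zpowers (π y) = T.map π := by
      refine Subgroup.eq_of_le_of_card_ge (Subgroup.zpowers_le.mpr hyT) ?_
      rw [hi, hir, pow_one, Nat.card_zpowers]
      exact le_of_eq ((hr.eq_one_or_self_of_dvd _ hord).resolve_left hy1).symm
    rw [heq]
    exact Subgroup.mem_map_of_mem π ht

/-- The image outside `N` of such a centralizer is the image of the centralizer of `R`. -/
theorem map_cen_le (hRN : (R : Subgroup G) ≤ N) {y : G} (hy : y ∈ (R : Subgroup G))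
    (hyc : ∀ u ∈ (R : Subgroup G), ∃ c ∈ Subgroup.center G, u * y * u⁻¹ = c * y)
    (hT : ∀ t ∈ cen y ⊓ (R : Subgroup G),
        QuotientGroup.mk' (Subgroup.center G) t ∈
          Subgroup.zpowers (QuotientGroup.mk' (Subgroup.center G) y)) :
    (cen y).map (QuotientGroup.mk' N) ≤
      (Subgroup.centralizer ((R : Subgroup G) : Set G)).map (QuotientGroup.mk' N) := by
  have hr : r.Prime := Fact.out
  set C := Subgroup.centralizer ((R : Subgroup G) : Set G)
  rw [Subgroup.map_le_iff_le_comap]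
  set S := (C.map (QuotientGroup.mk' N)).comap (QuotientGroup.mk' N)
  have hNS : N ≤ S := fun z hz => by
    rw [Subgroup.mem_comap, QuotientGroup.mk'_apply, (QuotientGroup.eq_one_iff z).mpr hz]
    exact one_mem _
  -- `T = cen y ⊓ R` commutes with the whole of `cen y`
  have hTc : ∀ t ∈ cen y ⊓ (R : Subgroup G), ∀ k ∈ cen y, k * t = t * k := by
    intro t ht k hk
    obtain ⟨e, he⟩ := Subgroup.mem_zpowers_iff.mp (hT t ht)
    have hz : (y ^ e)⁻¹ * t ∈ Subgroup.center G := by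
      rw [← QuotientGroup.eq_one_iff, ← QuotientGroup.mk'_apply, map_mul, map_inv, map_zpow, he,
        inv_mul_cancel]
    have h1 : k ∈ cen t := by
      rw [show t = y ^ e * ((y ^ e)⁻¹ * t) by group, mem_cen, ← mul_assoc,
        (Commute.zpow_right (mem_cen.mp hk) e : Commute k (y ^ e)).eq, mul_assoc,
        Subgroup.mem_center_iff.mp hz k, ← mul_assoc]
    exact mem_cen.mp h1
  intro k hk
  set M := (R : Subgroup G) ⊔ (cen y ⊓ N)
  have hMN : M ≤ N := sup_le hRN inf_le_right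
  have hRy : (R : Subgroup G) ≤ Subgroup.normalizer ((cen y : Subgroup G) : Set G) := fun u hu => by
    obtain ⟨c, hc, hcu⟩ := hyc u hu
    exact mem_normalizer_of_central_mod hc hcu
  have hRn : (R : Subgroup G) ≤ Subgroup.normalizer ((cen y ⊓ N : Subgroup G) : Set G) := by
    intro u hu
    refine Subgroup.mem_normalizer_iff.mpr fun z => ?_
    have h1 := Subgroup.mem_normalizer_iff.mp (hRy hu) z
    constructor
    · exact fun h => ⟨h1.mp h.1, Subgroup.Normal.conj_mem inferInstance _ h.2 u⟩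
    · intro h
      have := Subgroup.Normal.conj_mem inferInstance _ h.2 u⁻¹
      rw [show u⁻¹ * (u * z * u⁻¹) * u⁻¹⁻¹ = z by group] at this
      exact ⟨h1.mpr h.1, this⟩
  have hkR : ∀ u ∈ (R : Subgroup G), k * u * k⁻¹ ∈ M := by
    intro u hu
    have h1 : u⁻¹ * k * u * k⁻¹ ∈ cen y := by
      refine (cen y).mul_mem ?_ ((cen y).inv_mem hk)
      have := (Subgroup.mem_normalizer_iff.mp (hRy (R.1.inv_mem hu)) k).mp hk
      simpa using this
    have h2 : u⁻¹ * k * u * k⁻¹ ∈ N := by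
      have := N.mul_mem (N.inv_mem (hRN hu)) (Subgroup.Normal.conj_mem inferInstance _ (hRN hu) k)
      simpa [mul_assoc] using this
    have := M.mul_mem (Subgroup.mem_sup_left hu) (Subgroup.mem_sup_right ⟨h1, h2⟩)
    simpa [mul_assoc] using this
  obtain ⟨μ, hμM, hμ⟩ : ∃ μ ∈ M, ∀ u ∈ (R : Subgroup G), (μ * k) * u * (μ * k)⁻¹ ∈ (R : Subgroup G) := by
    let RM : Sylow r M := R.subtype le_sup_left
    have hU : IsPGroup r (((R : Subgroup G).map (MulAut.conj k).toMonoidHom).subgroupOf M) :=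
      (R.2.map _).of_equiv (Subgroup.subgroupOfEquivOfLe (by
        rintro _ ⟨u, hu, rfl⟩; exact hkR u hu)).symm
    obtain ⟨g, hg⟩ := exists_conj_le hU RM
    refine ⟨g, g.2, fun u hu => ?_⟩
    have := hg ⟨k * u * k⁻¹, hkR u hu⟩ ⟨u, hu, rfl⟩
    rw [Sylow.coe_subtype, Subgroup.mem_subgroupOf] at this
    simpa [mul_assoc] using this
  obtain ⟨ρ, hρ, c, hc, rfl⟩ : ∃ ρ ∈ (R : Subgroup G), ∃ c ∈ cen y ⊓ N, ρ * c = μ := by
    have hμ' : μ ∈ (((R : Subgroup G) ⊔ (cen y ⊓ N) : Subgroup G) : Set G) := hμM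
    rw [Subgroup.coe_mul_of_left_le_normalizer_right _ _ hRn] at hμ'
    exact Set.mem_mul.mp hμ'
  set h := c * k with hh
  have hhy : h ∈ cen y := (cen y).mul_mem hc.1 hk
  have hhR : ∀ u ∈ (R : Subgroup G), h * u * h⁻¹ ∈ (R : Subgroup G) := by
    intro u hu
    have := R.1.mul_mem (R.1.mul_mem (R.1.inv_mem hρ) (hμ u hu)) hρ
    rwa [show ρ⁻¹ * (ρ * c * k * u * (ρ * c * k)⁻¹) * ρ = h * u * h⁻¹ by rw [hh]; group] at this
  suffices hS : h ∈ S by
    have := S.mul_mem (S.inv_mem (hNS hc.2)) hS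
    rwa [hh, inv_mul_cancel_left] at this
  refine mem_of_prime_power_parts fun z hz p i hp hzi => ?_
  by_cases hpr : p = r
  · subst hpr
    exact hNS (mem_normal_of_orderOf R hRN hzi)
  obtain ⟨e, rfl⟩ := (isOfFinOrder_of_finite h).mem_powers_iff_mem_zpowers.mpr hz
  have hzy : h ^ e ∈ cen y := (cen y).pow_mem hhy e
  refine Subgroup.mem_map_of_mem _ ?_
  rw [Subgroup.mem_centralizer_iff]
  intro u hu
  have hconjR : ∀ n : ℕ, h ^ n * u * (h ^ n)⁻¹ ∈ (R : Subgroup G) := by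
    intro n
    induction n with
    | zero => rw [pow_zero, one_mul, inv_one, mul_one]; exact hu
    | succ n ih =>
      rw [pow_succ', show h * h ^ n * u * (h * h ^ n)⁻¹ = h * (h ^ n * u * (h ^ n)⁻¹) * h⁻¹ by group]
      exact hhR _ ih
  set z := h ^ e
  set t := u⁻¹ * (z * u * z⁻¹) with ht
  have htR : t ∈ (R : Subgroup G) := R.1.mul_mem (R.1.inv_mem hu) (hconjR e)
  obtain ⟨c', hc', hcu⟩ := hyc u hu
  have hty : t ∈ cen y := by
    rw [mem_cen]
    have hzy' : z * y = y * z := mem_cen.mp hzy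
    have hzc : z * c' = c' * z := Subgroup.mem_center_iff.mp hc' z
    have h1 : (z * u * z⁻¹) * y * (z * u * z⁻¹)⁻¹ = u * y * u⁻¹ := by
      calc (z * u * z⁻¹) * y * (z * u * z⁻¹)⁻¹ = z * (u * (z⁻¹ * (y * z)) * u⁻¹) * z⁻¹ := by group
        _ = z * (u * y * u⁻¹) * z⁻¹ := by rw [← hzy', inv_mul_cancel_left]
        _ = u * y * u⁻¹ := by
          rw [hcu, ← mul_assoc z, hzc, mul_assoc c', hzy', mul_assoc, mul_assoc,
            mul_inv_cancel, mul_one]
    calc t * y = u⁻¹ * ((z * u * z⁻¹) * y * (z * u * z⁻¹)⁻¹) * (z * u * z⁻¹) := by rw [ht]; group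
      _ = y * t := by rw [h1, ht]; group
  have htz : z * t = t * z := hTc t ⟨hty, htR⟩ z hzy
  have key : ∀ n : ℕ, z ^ n * u * (z ^ n)⁻¹ = u * t ^ n := by
    intro n
    induction n with
    | zero => simp
    | succ n ih =>
      have htn : Commute z (t ^ n) := Commute.pow_right htz n
      calc z ^ (n + 1) * u * (z ^ (n + 1))⁻¹ = z * (z ^ n * u * (z ^ n)⁻¹) * z⁻¹ := by
            rw [pow_succ']; group
        _ = z * u * (t ^ n * z⁻¹) := by rw [ih]; group
        _ = z * u * (z⁻¹ * t ^ n) := by rw [htn.inv_left.eq]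
        _ = u * (t * t ^ n) := by
            rw [← mul_assoc, show z * u * z⁻¹ = u * t by rw [ht]; group, mul_assoc]
        _ = u * t ^ (n + 1) := by rw [pow_succ']
  have h1 := key (orderOf z)
  rw [pow_orderOf_eq_one, inv_one, one_mul, mul_one] at h1
  have ht0 : t ^ orderOf z = 1 := mul_eq_left.mp h1.symm
  obtain ⟨l, hl⟩ := IsPGroup.iff_orderOf.mp R.2 ⟨t, htR⟩
  rw [← Subgroup.orderOf_coe] at hl
  have ht1 : t = 1 := by
    refine orderOf_eq_one_iff.mp (Nat.eq_one_of_dvd_coprimes ?_ (dvd_refl _)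
      (orderOf_dvd_of_pow_eq_one ht0))
    rw [hzi]
    change Nat.Coprime (orderOf t) _
    rw [hl]; exact Nat.Coprime.pow _ _ ((Nat.coprime_primes hr hp).mpr (Ne.symm hpr))
  rw [ht, inv_mul_eq_one, eq_mul_inv_iff_mul_eq] at ht1
  exact ht1

/-- **The theorem.** -/
theorem isPGroup_quotient_center (hE : Equi N m) (hRN : (R : Subgroup G) ≤ N)
    (hR : ¬ (R : Subgroup G) ≤ Subgroup.center G) : IsPGroup r (N ⧸ Subgroup.center N) := by
  have hr : r.Prime := Fact.out
  set Z := Subgroup.center G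
  have hsub : ∀ y : N, (y : G) ∈ Z → y ∈ Subgroup.center N := fun y hy =>
    Subgroup.mem_center_iff.mpr fun g => Subtype.ext (Subgroup.mem_center_iff.mp hy g)
  have hgoal : (∀ y : N, ∀ q j : ℕ, q.Prime → q ≠ r → orderOf y = q ^ j → y ∈ Subgroup.center N) →
      IsPGroup r (N ⧸ Subgroup.center N) := by
    rintro hc ⟨y⟩
    have hmap : IsPGroup r ((⊤ : Subgroup N).map (QuotientGroup.mk' (Subgroup.center N))) :=
      Setup.map_mk_pgroup fun z _ q j hq hqr hzj => hc z q j hq hqr hzj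
    obtain ⟨k, hk⟩ := hmap ⟨_, Subgroup.mem_map_of_mem _ (Subgroup.mem_top y)⟩
    exact ⟨k, congrArg Subtype.val hk⟩
  by_cases hex : ∃ w ∈ N, w ∉ Z ∧ ∃ q j : ℕ, q.Prime ∧ q ≠ r ∧ orderOf w = q ^ j
  swap
  · push Not at hex
    refine hgoal fun y q j hq hqr hyj => hsub y ?_
    by_contra hy
    exact hex y y.2 hy q j hq hqr (by rw [Subgroup.orderOf_coe, hyj])
  obtain ⟨w, hwN, hw, q, j, hq, hqr, hwj⟩ := hex
  by_cases hrm : r ∣ m
  swap
  · refine hgoal fun y _ _ _ _ _ => Subgroup.mem_center_iff.mpr fun g => Subtype.ext ?_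
    exact comm_of_not_dvd R hE hRN hq hqr hwN hw hwj hR hrm g g.2 y y.2
  exfalso
  obtain ⟨x, hx, hxZ, hxr, hxc⟩ := exists_central_mod R.2 hR
  set τ := r ^ (Nat.card (cen x)).factorization r with hτdef
  have hcard : ∀ a ∈ N, a ∉ Z → Nat.card (cen a) = Nat.card (cen x) := by
    intro a ha ha'
    have h1 := Subgroup.card_mul_index (cen a)
    rw [hE a ha ha', ← Subgroup.card_mul_index (cen x), hE x (hRN hx) hxZ] at h1
    exact mul_right_cancel₀ (by rw [← hE x (hRN hx) hxZ]; exact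
      Subgroup.index_ne_zero_of_finite) h1
  have hτ : ∀ a ∈ N, a ∉ Z → r ^ (Nat.card (cen a)).factorization r = τ := fun a ha ha' => by
    rw [hτdef, hcard a ha ha']
  have hτle := tau_le R hE hRN hrm hτ hx hxZ hxr hxc hq hqr hwN hw hwj
  have hsmall : ∀ y ∈ (R : Subgroup G), y ∉ Z → _ := fun y hy hyZ =>
    cen_inf_central R hy hyZ (le_trans ((card_inf_le_ordProj R.2).trans (hτ y (hRN hy) hyZ).le) hτle)
  set π := QuotientGroup.mk' Z with hπ
  set ρ := QuotientGroup.mk' N with hρ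
  set CR := (Subgroup.centralizer ((R : Subgroup G) : Set G)).map ρ
  have himg : ∀ y ∈ (R : Subgroup G), CR ≤ (cen y).map ρ := fun y hy =>
    Subgroup.map_mono fun k hk =>
      mem_cen.mpr ((Subgroup.mem_centralizer_iff.mp hk y hy).symm)
  -- `x` is mixed
  have hmixx : Mixed N x r := by
    by_contra hmix
    obtain ⟨g, hg⟩ := exists_conj_inf r R w
    set w' := g * w * g⁻¹
    have hw'o : orderOf w' = q ^ j := (MulEquiv.orderOf_eq (MulAut.conj g) w).trans hwj
    have hw'N : w' ∈ N := Subgroup.Normal.conj_mem inferInstance _ hwN g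
    have hw'Z : w' ∉ Z := fun h => hw (mem_center_conj_iff.mp h)
    obtain ⟨y, hyT, hyZ⟩ : ∃ y ∈ cen w' ⊓ (R : Subgroup G), y ∉ Z := by
      by_contra! hall
      have h1 := Subgroup.card_le_of_le (show cen w' ⊓ (R : Subgroup G) ≤ Z ⊓ (R : Subgroup G) from fun z hz => ⟨hall z hz, hz.2⟩)
      rw [hτ w hwN hw, hτdef] at hg
      have h2 : Nat.card ↥(Z ⊓ (R : Subgroup G)) < Nat.card ↥(cen x ⊓ (R : Subgroup G)) := by
        by_contra! hle
        have := Subgroup.eq_of_le_of_card_ge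
          (inf_le_inf (center_le_cen x) le_rfl : Z ⊓ (R : Subgroup G) ≤ _) hle
        exact hxZ (this ▸ (⟨self_mem_cen x, hx⟩ : x ∈ cen x ⊓ (R : Subgroup G)) :
          x ∈ Z ⊓ (R : Subgroup G)).1
      have h3 : Nat.card ↥(cen x ⊓ (R : Subgroup G)) ≤ _ := card_inf_le_ordProj R.2
      omega
    obtain ⟨i, hi⟩ := IsPGroup.iff_orderOf.mp R.2 ⟨y, hyT.2⟩
    rw [← Subgroup.orderOf_coe] at hi
    have hcy : cen y = cen w' := by
      refine hE.coprime_eq (hRN hyT.2) hyZ hw'N hw'Z (mem_cen.mp hyT.1) ?_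
      rw [hi, hw'o]; exact Nat.Coprime.pow _ _ ((Nat.coprime_primes hr hq).mpr hqr.symm)
    -- sizes
    have h1 := card_inf_mul_card_map (K := N) (cen y)
    have h2 := card_inf_mul_card_map (K := N) (cen x)
    rw [hcard y (hRN hyT.2) hyZ, ← h2] at h1
    have hle : Nat.card ↥(cen y ⊓ N) ≤ Nat.card ↥(cen x ⊓ N) := by
      have h3 : Nat.card ((cen x).map ρ) ≤ Nat.card ((cen y).map ρ) := Subgroup.card_le_of_le
        ((map_cen_le R hRN hx hxc (hsmall x hx hxZ).2).trans (himg y hyT.2))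
      refine Nat.le_of_mul_le_mul_right ?_ (Nat.card_pos (α := (cen x).map ρ))
      exact (Nat.mul_le_mul_left _ h3).trans h1.le
    -- the image of `cen x ⊓ N` modulo the centre is cyclic of order `r`
    have hUx : (cen x ⊓ N).map π ≤ Subgroup.zpowers (π x) := by
      rw [Subgroup.map_le_iff_le_comap]
      intro v hv
      refine mem_of_prime_power_parts fun z hz p l hp hzl => ?_
      have hzv : z ∈ cen x ⊓ N := (Subgroup.zpowers_le.mpr hv) hz
      by_cases hzZ : z ∈ Z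
      · rw [Subgroup.mem_comap, show π z = 1 from (QuotientGroup.eq_one_iff z).mpr hzZ]
        exact one_mem _
      have hpr : p = r := by
        by_contra hpr
        exact hmix ⟨z, hzv.2, hzZ, hzv.1, p, l, hp, hpr, hzl⟩
      subst hpr
      set T := cen x ⊓ (R : Subgroup G)
      have hTc : Subgroup.zpowers z ≤ Subgroup.normalizer ((T : Subgroup G) : Set G) := by
        rw [Subgroup.zpowers_le]
        refine Subgroup.mem_normalizer_iff.mpr fun u => ?_
        have hcomm : ∀ t ∈ T, z * t * z⁻¹ = t := by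
          intro t ht
          obtain ⟨e, he⟩ := Subgroup.mem_zpowers_iff.mp ((hsmall x hx hxZ).2 t ht)
          have hzc : (x ^ e)⁻¹ * t ∈ Z := by
            rw [← QuotientGroup.eq_one_iff, ← QuotientGroup.mk'_apply, map_mul, map_inv,
              map_zpow, he, inv_mul_cancel]
          have hzt : z * t = t * z := by
            rw [show t = x ^ e * ((x ^ e)⁻¹ * t) by group, ← mul_assoc,
              (Commute.zpow_right (mem_cen.mp hzv.1) e : Commute z (x ^ e)).eq, mul_assoc,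
              Subgroup.mem_center_iff.mp hzc z, ← mul_assoc]
          rw [hzt, mul_inv_cancel_right]
        constructor
        · intro hu; rwa [hcomm u hu]
        · intro hu
          have h2 : z * u * z⁻¹ = u := mul_left_cancel (mul_right_cancel (hcomm _ hu))
          rwa [h2] at hu
      have hHp : IsPGroup p ↥(Subgroup.zpowers z ⊔ T) :=
        (IsPGroup.of_card (n := l) (by rw [Nat.card_zpowers, hzl])).to_sup_of_normal_right'
          (R.2.to_le inf_le_right) hTc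
      have hHle : Subgroup.zpowers z ⊔ T ≤ cen x :=
        sup_le (Subgroup.zpowers_le.mpr hzv.1) inf_le_left
      have hT : T = Subgroup.zpowers z ⊔ T := by
        refine Subgroup.eq_of_le_of_card_ge le_sup_right ?_
        have := card_inf_le_ordProj (p := p) (H := cen x) hHp
        rw [inf_eq_right.mpr hHle] at this
        refine this.trans (ordProj_le_card_inf R fun u hu => ?_)
        obtain ⟨c, hc, hcu⟩ := hxc u hu
        exact mem_normalizer_of_central_mod hc hcu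
      exact (hsmall x hx hxZ).2 z (hT.ge (Subgroup.mem_sup_left (Subgroup.mem_zpowers z)))
    have hleU : Nat.card ((cen y ⊓ N).map π) ≤ Nat.card (Subgroup.zpowers (π x)) := by
      refine le_trans ?_ (Subgroup.card_le_of_le hUx)
      have e1 := card_inf_mul_card_map (K := Z) (cen y ⊓ N)
      have e2 := card_inf_mul_card_map (K := Z) (cen x ⊓ N)
      have e3 : (cen y ⊓ N) ⊓ Z = (cen x ⊓ N) ⊓ Z := by
        ext v
        exact ⟨fun h => ⟨⟨center_le_cen x h.2, h.1.2⟩, h.2⟩,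
          fun h => ⟨⟨center_le_cen y h.2, h.1.2⟩, h.2⟩⟩
      refine Nat.le_of_mul_le_mul_left ?_ (Nat.card_pos (α := ↥((cen x ⊓ N) ⊓ Z)))
      rw [e2]
      calc _ = Nat.card ↥(cen y ⊓ N) := by rw [← e3]; exact e1
        _ ≤ _ := hle
    have hyr := (hsmall y hyT.2 hyZ).1
    have hor : ∀ v : G, v ∉ Z → v ^ r ∈ Z → orderOf (π v) = r := fun v hv hvr =>
      orderOf_eq_prime (by rw [← map_pow]; exact (QuotientGroup.eq_one_iff _).mpr hvr)
        fun h => hv ((QuotientGroup.eq_one_iff _).mp h)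
    rw [Nat.card_zpowers, hor x hxZ hxr] at hleU
    have heq : Subgroup.zpowers (π y) = (cen y ⊓ N).map π := by
      refine Subgroup.eq_of_le_of_card_ge (Subgroup.zpowers_le.mpr
        (Subgroup.mem_map_of_mem π ⟨self_mem_cen y, hRN hyT.2⟩)) ?_
      rw [Nat.card_zpowers, hor y hyZ hyr]
      exact hleU
    have hwπ : π w' ∈ Subgroup.zpowers (π y) :=
      heq ▸ Subgroup.mem_map_of_mem π ⟨hcy ▸ self_mem_cen w', hw'N⟩
    have hwr : w' ^ r ∈ Z := by
      rw [← QuotientGroup.eq_one_iff, ← QuotientGroup.mk'_apply, map_pow]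
      refine orderOf_dvd_iff_pow_eq_one.mp ?_
      rw [← hor y hyZ hyr]
      exact orderOf_dvd_of_mem_zpowers hwπ
    have hcop : r.Coprime (orderOf w') := by
      rw [hw'o]; exact Nat.Coprime.pow_right _ ((Nat.coprime_primes hr hq).mpr hqr.symm)
    obtain ⟨e', he'⟩ := exists_pow_eq_self_of_coprime hcop
    exact hw'Z (he' ▸ Z.pow_mem hwr e')
  -- `R` is abelian modulo the centre
  have hTx := (mixed_bound R hE hRN hrm hτ hx hxZ hxr hxc hmixx).1
  have hcomm : IsMulCommutative ((R : Subgroup G).map π) := by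
    obtain ⟨i, hi⟩ := (R.2.map π).exists_card_eq
    have hle : Nat.card ((R : Subgroup G).map π) ≤ r ^ 2 := by
      have h1 := card_inf_mul_card_map (K := Z) (R : Subgroup G)
      refine Nat.le_of_mul_le_mul_left ?_ (Nat.card_pos (α := ↥((R : Subgroup G) ⊓ Z)))
      rw [h1]
      calc Nat.card R ≤ r * Nat.card ↥(cen x ⊓ (R : Subgroup G)) := hTx
        _ ≤ r * (r * Nat.card ↥(Z ⊓ (R : Subgroup G))) := Nat.mul_le_mul_left _
            (((card_inf_le_ordProj R.2).trans hτdef.ge).trans hτle)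
        _ = Nat.card ↥((R : Subgroup G) ⊓ Z) * r ^ 2 := by rw [inf_comm]; ring
    rw [hi] at hle
    have hi2 : i ≤ 2 := (Nat.pow_le_pow_iff_right hr.one_lt).mp hle
    by_cases h2 : i = 2
    · exact IsPGroup.isMulCommutative_of_card_eq_prime_sq (p := r) (by rw [hi, h2])
    · haveI : IsCyclic ((R : Subgroup G).map π) := isCyclic_of_card_dvd_prime (p := r) (by
        rw [hi]; exact (pow_dvd_pow r (by omega : i ≤ 1)).trans (by rw [pow_one]))
      exact IsCyclic.isMulCommutative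
  have hyc : ∀ y ∈ (R : Subgroup G), ∀ u ∈ (R : Subgroup G),
      ∃ c ∈ Z, u * y * u⁻¹ = c * y := by
    intro y hy u hu
    refine ⟨u * y * u⁻¹ * y⁻¹, ?_, by group⟩
    rw [← QuotientGroup.eq_one_iff, ← QuotientGroup.mk'_apply, ← hπ, map_mul, map_mul, map_mul,
      map_inv, map_inv]
    have := congrArg Subtype.val (hcomm.is_comm.comm
      ⟨π u, Subgroup.mem_map_of_mem π hu⟩ ⟨π y, Subgroup.mem_map_of_mem π hy⟩)
    simp only [Subgroup.coe_mul] at this
    rw [this]
    group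
  have hconst : ∀ a ∈ N, a ∉ Z → Nat.card ↥(cen a ⊓ N) = Nat.card ↥(cen x ⊓ N) := by
    have hR' : ∀ y ∈ (R : Subgroup G), y ∉ Z →
        Nat.card ↥(cen y ⊓ N) = Nat.card ↥(cen x ⊓ N) := by
      intro y hy hyZ
      have e : ∀ v ∈ (R : Subgroup G), v ∉ Z → (cen v).map ρ = CR := fun v hv hvZ =>
        le_antisymm (map_cen_le R hRN hv (hyc v hv) (hsmall v hv hvZ).2) (himg v hv)
      have h1 := card_inf_mul_card_map (K := N) (cen y)
      have h2 := card_inf_mul_card_map (K := N) (cen x)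
      rw [← hρ, e y hy hyZ] at h1
      rw [← hρ, e x hx hxZ] at h2
      rw [hcard y (hRN hy) hyZ, ← h2] at h1
      exact mul_right_cancel₀ Nat.card_pos.ne' h1
    intro a ha ha'
    obtain ⟨b, hbN, hbZ, hbeq, -, p, k, hp, hbk⟩ := hE.exists_part ha ha'
    rw [← hbeq]
    by_cases hpr : p = r
    · subst hpr
      obtain ⟨g, hg⟩ := exists_conj_mem R hbk
      rw [← card_cen_inf_conj g b]
      exact hR' _ hg fun h => hbZ (mem_center_conj_iff.mp h)
    · obtain ⟨g, hg⟩ := exists_conj_inf r R b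
      obtain ⟨y, hyT, hyZ⟩ : ∃ y ∈ cen (g * b * g⁻¹) ⊓ (R : Subgroup G), y ∉ Z := by
        by_contra! hall
        have h1 := Subgroup.card_le_of_le (show cen (g * b * g⁻¹) ⊓ (R : Subgroup G) ≤ Z ⊓ (R : Subgroup G) from fun z hz => ⟨hall z hz, hz.2⟩)
        rw [hτ b hbN hbZ, hτdef] at hg
        have h2 : Nat.card ↥(Z ⊓ (R : Subgroup G)) < Nat.card ↥(cen x ⊓ (R : Subgroup G)) := by
          by_contra! hle
          have := Subgroup.eq_of_le_of_card_ge
            (inf_le_inf (center_le_cen x) le_rfl : Z ⊓ (R : Subgroup G) ≤ _) hle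
          exact hxZ (this ▸ (⟨self_mem_cen x, hx⟩ : x ∈ cen x ⊓ (R : Subgroup G)) :
            x ∈ Z ⊓ (R : Subgroup G)).1
        have h3 : Nat.card ↥(cen x ⊓ (R : Subgroup G)) ≤ _ := card_inf_le_ordProj R.2
        omega
      obtain ⟨i, hi⟩ := IsPGroup.iff_orderOf.mp R.2 ⟨y, hyT.2⟩
      rw [← Subgroup.orderOf_coe] at hi
      rw [← card_cen_inf_conj g b,
        hE.coprime_eq (Subgroup.Normal.conj_mem inferInstance _ hbN g)
          (fun h => hbZ (mem_center_conj_iff.mp h)) (hRN hyT.2) hyZ (mem_cen.mp hyT.1).symm (by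
            rw [show orderOf (g * b * g⁻¹) = p ^ k from (MulEquiv.orderOf_eq (MulAut.conj g) b).trans hbk, hi]
            exact Nat.Coprime.pow _ _ ((Nat.coprime_primes hp hr).mpr hpr))]
      exact hR' y hyT.2 hyZ
  have hnotle : ∀ a ∈ N, a ∉ Z → ¬ N ≤ cen a := by
    intro a ha ha' hle
    have := Subgroup.index_dvd_of_le (hRN.trans hle : (R : Subgroup G) ≤ cen a)
    rw [hE a ha ha'] at this
    exact R.not_dvd_index (hrm.trans this)
  have hcen : ∀ y : N, y ∈ Subgroup.center N ↔ (y : G) ∈ Z := by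
    refine fun y => ⟨fun hy => ?_, hsub y⟩
    by_contra hyZ
    exact hnotle y y.2 hyZ fun g hg =>
      mem_cen.mpr (congrArg Subtype.val (Subgroup.mem_center_iff.mp hy ⟨g, hg⟩))
  have hcenN : ∀ y : N, cen y = (cen (y : G)).subgroupOf N := by
    intro y
    ext v
    rw [Subgroup.mem_subgroupOf, mem_cen, mem_cen, Subtype.ext_iff]
    rfl
  set n' := (cen (x : G)).relIndex N
  have hE' : Equi (⊤ : Subgroup N) n' := by
    intro a _ ha
    have haZ : (a : G) ∉ Z := fun h => ha ((hcen a).mpr h)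
    rw [hcenN a]
    show (cen (a : G)).relIndex N = n'
    have e1 := Subgroup.relIndex_mul_relIndex ⊥ (cen (a : G) ⊓ N) N bot_le inf_le_right
    have e2 := Subgroup.relIndex_mul_relIndex ⊥ (cen x ⊓ N) N bot_le inf_le_right
    rw [Subgroup.relIndex_bot_left, Subgroup.relIndex_bot_left, Subgroup.inf_relIndex_right] at e1 e2
    rw [hconst a a.2 haZ, ← e2] at e1
    exact mul_left_cancel₀ Nat.card_pos.ne' e1
  have hn' : 1 < n' := by
    have h0 : n' ≠ 0 := Subgroup.index_ne_zero_of_finite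
    have h1 : n' ≠ 1 := fun h => hnotle x (hRN hx) hxZ (Subgroup.relIndex_eq_one.mp h)
    omega
  obtain ⟨p, hp, hpc⟩ := exists_prime_central hn' hE'
    ⟨⟨x, hRN hx⟩, fun h => hxZ ((hcen _).mp h)⟩
  obtain ⟨i, hi⟩ := IsPGroup.iff_orderOf.mp R.2 ⟨x, hx⟩
  have hpr : p = r := by
    by_contra hpr
    exact hxZ ((hcen ⟨x, hRN hx⟩).mp (hpc _ r i hr (Ne.symm hpr)
      (by rw [← Subgroup.orderOf_coe] at hi ⊢; exact hi)))
  exact hw ((hcen ⟨w, hwN⟩).mp (hpc _ q j hq (hpr ▸ hqr) (by rw [← Subgroup.orderOf_coe]; exact hwj)))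

end CfsgLib.TwoClassSizes
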