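import Cfsg.Agent.Lib.TwoClassSizes.Basic

/-!
Sylow subgroups and centralizers inside a normal subgroup.
-/

set_option autoImplicit false
set_option linter.style.haveILetI false

open scoped Pointwise

namespace CfsgLib.TwoClassSizes

open CfsgLib.CentMaxNormal

variable {G : Type*} [Group G] [Finite G] {r : ℕ} [Fact r.Prime]

theorem exists_conj_le {U : Subgroup G} (hU : IsPGroup r U) (R : Sylow r G) :
    ∃ g : G, ∀ u ∈ U, g * u * g⁻¹ ∈ (R : Subgroup G) := by
  obtain ⟨Q, hQ⟩ := hU.exists_le_sylow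
  obtain ⟨g, hg⟩ := MulAction.exists_smul_eq G Q R
  refine ⟨g, fun u hu => ?_⟩
  rw [← hg, Sylow.coe_subgroup_smul]
  exact Subgroup.smul_mem_pointwise_smul u (MulAut.conj g) _ (hQ hu)

theorem exists_conj_mem (R : Sylow r G) {y : G} {j : ℕ} (hy : orderOf y = r ^ j) :
    ∃ g : G, g * y * g⁻¹ ∈ (R : Subgroup G) := by
  obtain ⟨g, hg⟩ := exists_conj_le (IsPGroup.of_card (n := j) (by rw [Nat.card_zpowers, hy])) R
  exact ⟨g, hg y (Subgroup.mem_zpowers y)⟩

theorem mem_normal_of_orderOf {N : Subgroup G} [N.Normal] (R : Sylow r G)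
    (hRN : (R : Subgroup G) ≤ N) {y : G} {j : ℕ} (hy : orderOf y = r ^ j) : y ∈ N := by
  obtain ⟨g, hg⟩ := exists_conj_mem R hy
  have := Subgroup.Normal.conj_mem inferInstance _ (hRN hg) g⁻¹
  rwa [show g⁻¹ * (g * y * g⁻¹) * g⁻¹⁻¹ = y by group] at this

theorem ordProj_le_card_inf {H : Subgroup G} (R : Sylow r G)
    (hn : (R : Subgroup G) ≤ Subgroup.normalizer (H : Set G)) :
    r ^ (Nat.card H).factorization r ≤ Nat.card ↥(H ⊓ (R : Subgroup G)) := by
  obtain ⟨T⟩ := (inferInstance : Nonempty (Sylow r H))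
  set L := Subgroup.normalizer (H : Set G)
  have hle : H ≤ L := Subgroup.le_normalizer
  have hU : IsPGroup r (((T : Subgroup H).map H.subtype).subgroupOf L) :=
    (T.2.map H.subtype).of_equiv
      (Subgroup.subgroupOfEquivOfLe ((Subgroup.map_subtype_le _).trans hle)).symm
  obtain ⟨g, hg⟩ := exists_conj_le hU (R.subtype hn)
  have hmap : ((T : Subgroup H).map H.subtype).map (MulAut.conj (g : G)).toMonoidHom ≤
      H ⊓ (R : Subgroup G) := by
    rintro _ ⟨u, hu, rfl⟩
    have huH : u ∈ H := Subgroup.map_subtype_le _ hu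
    refine ⟨(Subgroup.mem_normalizer_iff.mp g.2 u).mp huH, ?_⟩
    have := hg ⟨u, hle huH⟩ hu
    rw [Sylow.coe_subtype, Subgroup.mem_subgroupOf] at this
    exact this
  refine le_trans (le_of_eq ?_) (Subgroup.card_le_of_le hmap)
  rw [Subgroup.card_map_of_injective (MulAut.conj (g : G)).injective,
    Subgroup.card_map_of_injective (Subgroup.subtype_injective _), T.card_eq_multiplicity]

omit [Fact r.Prime] in
/-- A normal subgroup not contained in `C` has an element all of whose conjugates inside it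
avoid `C`. -/
theorem exists_avoid {N C : Subgroup G} (h : ¬ N ≤ C) :
    ∃ v ∈ N, ∀ n ∈ N, n * v * n⁻¹ ∉ C := by
  by_contra! hall
  refine h (Subgroup.subgroupOf_eq_top.mp (eq_top_of_conj_cover (H := C.subgroupOf N) fun v => ?_))
  obtain ⟨k, hk, hv⟩ := hall v v.2
  refine ⟨⟨k, hk⟩⁻¹, ?_⟩
  simpa [Subgroup.mem_subgroupOf, mul_assoc] using hv

omit [Fact r.Prime] in
theorem card_le_mul_of_inf {T T' P K : Subgroup G} {c : ℕ} (hT : T ≤ P) (hT' : T' ≤ P)
    (hK : T ⊓ T' ≤ K) (hP : Nat.card P ≤ c * Nat.card T) : Nat.card T' ≤ c * Nat.card K := by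
  have h1 := Subgroup.relIndex_mul_relIndex ⊥ (T ⊓ T') T' bot_le inf_le_right
  rw [Subgroup.relIndex_bot_left, Subgroup.relIndex_bot_left, Subgroup.inf_relIndex_right] at h1
  have h2 := Subgroup.relIndex_mul_relIndex ⊥ T P bot_le hT
  rw [Subgroup.relIndex_bot_left, Subgroup.relIndex_bot_left] at h2
  have h3 : T.relIndex T' ≤ T.relIndex P :=
    Subgroup.relIndex_le_of_le_right hT' Subgroup.index_ne_zero_of_finite
  have h4 : T.relIndex P ≤ c := by
    refine Nat.le_of_mul_le_mul_left ?_ (Nat.card_pos (α := T))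
    rw [h2, mul_comm]; exact hP
  calc Nat.card T' = Nat.card ↥(T ⊓ T') * T.relIndex T' := h1.symm
    _ ≤ Nat.card K * c := Nat.mul_le_mul (Subgroup.card_le_of_le hK) (h3.trans h4)
    _ = c * Nat.card K := mul_comm _ _

omit [Fact r.Prime] in
/-- The order of a subgroup from its intersection with a kernel and its image. -/
theorem card_inf_mul_card_map {K : Subgroup G} [K.Normal] (H : Subgroup G) :
    Nat.card ↥(H ⊓ K) * Nat.card (H.map (QuotientGroup.mk' K)) = Nat.card H := by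
  have h1 := Subgroup.relIndex_mul_relIndex ⊥ (K ⊓ H) H bot_le inf_le_right
  rw [Subgroup.relIndex_bot_left, Subgroup.relIndex_bot_left, Subgroup.inf_relIndex_right] at h1
  rw [← Subgroup.relIndex_ker, QuotientGroup.ker_mk', inf_comm]
  exact h1

omit [Fact r.Prime] in
theorem card_cen_inf_conj {N : Subgroup G} [hN : N.Normal] (g a : G) :
    Nat.card ↥(cen (g * a * g⁻¹) ⊓ N) = Nat.card ↥(cen a ⊓ N) := by
  have : (cen a ⊓ N).map (MulAut.conj g).toMonoidHom = cen (g * a * g⁻¹) ⊓ N := by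
    ext y
    rw [Subgroup.mem_map]
    constructor
    · rintro ⟨z, ⟨hz1, hz2⟩, rfl⟩
      exact ⟨map_cen g a ▸ Subgroup.mem_map_of_mem _ hz1, hN.conj_mem _ hz2 g⟩
    · rintro ⟨hy1, hy2⟩
      refine ⟨g⁻¹ * y * g, ⟨mem_cen_conj.mp hy1, ?_⟩, by simp [mul_assoc]⟩
      simpa using hN.conj_mem _ hy2 g⁻¹
  rw [← this, Subgroup.card_map_of_injective (MulAut.conj g).injective]

end CfsgLib.TwoClassSizes
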