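import Cfsg.Agent.Lib.TwoClassSizes.Basic

/-!
A group with two class sizes is a `p`-group modulo its centre, for a prime `p`.
-/

set_option autoImplicit false
set_option linter.style.haveILetI false

open scoped Pointwise

namespace CfsgLib.TwoClassSizes

open CfsgLib.CentMaxNormal

variable {G : Type*} [Group G] [Finite G] {n : ℕ}

/-- All noncentral centralizers are abelian, hence every element of `P` commutes with the elements
of other primes; first the normalizer step. -/
theorem normalizer_step (h : Equi (⊤ : Subgroup G) n)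
    (hab : ∀ x : G, x ∉ Subgroup.center G → ∀ y ∈ cen x, cen x ≤ cen y) {p : ℕ} [Fact p.Prime]
    (hpn : p ∣ n) (P : Sylow p G)
    (hmix : ∀ a : G, a ∉ Subgroup.center G → ∀ k : ℕ, orderOf a = p ^ k → Mixed ⊤ a p)
    {g : G} (hg : g ∉ Subgroup.center G) :
    ∃ K : Subgroup G, K ≤ Subgroup.normalizer ((cen g : Subgroup G) : Set G) ∧
      Nat.card K = Nat.card P := by
  have hp : p.Prime := Fact.out
  set Z := Subgroup.center G
  have hceq : ∀ x y : G, x ∉ Z → y ∉ Z → y ∈ cen x → cen y = cen x := fun x y hx hy hyx =>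
    (h.cen_eq_of_le (Subgroup.mem_top x) hx (Subgroup.mem_top y) hy (hab x hx y hyx)).symm
  have hcard : ∀ x y : G, x ∉ Z → y ∉ Z → Nat.card (cen x) = Nat.card (cen y) := by
    intro x y hx hy
    have h1 := Subgroup.card_mul_index (cen x)
    rw [h x (Subgroup.mem_top x) hx, ← Subgroup.card_mul_index (cen y),
      h y (Subgroup.mem_top y) hy] at h1
    exact mul_right_cancel₀ (by rw [← h x (Subgroup.mem_top x) hx]; exact
      Subgroup.index_ne_zero_of_finite) h1
  have hPnot : ∀ x : G, x ∉ Z → ¬ (P : Subgroup G) ≤ cen x := by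
    intro x hx hle
    have := Subgroup.index_dvd_of_le hle
    rw [h x (Subgroup.mem_top x) hx] at this
    exact P.not_dvd_index (hpn.trans this)
  have hPZ : ¬ (P : Subgroup G) ≤ Z := fun hle => hPnot g hg (hle.trans (center_le_cen g))
  obtain ⟨x, hxP, hxZ, hxp, hxc⟩ := exists_central_mod P.2 hPZ
  obtain ⟨k, hk⟩ := IsPGroup.iff_orderOf.mp P.2 ⟨x, hxP⟩
  rw [← Subgroup.orderOf_coe] at hk
  obtain ⟨w, -, hwZ, hwx, q, j, hq, hqp, hwj⟩ := hmix x hxZ k hk
  set T := cen x ⊓ (P : Subgroup G) with hTdef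
  have habA : ∀ a ∈ cen x, ∀ b ∈ cen x, a * b = b * a := fun a ha b hb =>
    mem_cen.mp (hab x hxZ b hb ha)
  have hPT : Nat.card P ≤ p * Nat.card T := by
    refine card_le_mul_of_fixed P.2 inf_le_right habA
      (fun t ht v hv => mem_cen.mpr (habA t ht.1 v hv)) ?_ ?_ ?_ ?_ ⟨w, hwx, ?_⟩
    · intro u hu
      obtain ⟨c, hc, hcu⟩ := hxc u hu
      exact mem_normalizer_of_central_mod hc hcu
    · intro u hu
      obtain ⟨c, hc, hcu⟩ := hxc u hu
      have hn := Subgroup.mem_normalizer_iff.mp (mem_normalizer_of_central_mod hc hcu)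
      rw [Subgroup.mem_normalizer_iff]
      intro y
      constructor
      · rintro ⟨hy1, hy2⟩
        exact ⟨(hn y).mp hy1, P.1.mul_mem (P.1.mul_mem hu hy2) (P.1.inv_mem hu)⟩
      · rintro ⟨hy1, hy2⟩
        refine ⟨(hn y).mpr hy1, ?_⟩
        have := P.1.mul_mem (P.1.mul_mem (P.1.inv_mem hu) hy2) hu
        rwa [show u⁻¹ * (u * y * u⁻¹) * u = y by group] at this
    · intro u hu
      obtain ⟨c, hc, hcu⟩ := hxc u hu
      exact ⟨pow_mem_cen_of_central_mod hc hcu hxp, P.1.pow_mem hu p⟩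
    · intro u hu huT v hv huv
      refine h.fixed_central (Subgroup.mem_top x) hxZ (fun y _ hy => hab x hxZ y hy)
        (fun hux => huT ⟨hux, hu⟩) (Subgroup.mem_top v) hv huv
    · intro hwp
      have hcop : p.Coprime (orderOf w) := by
        rw [hwj]; exact Nat.Coprime.pow_right _ ((Nat.coprime_primes hp hq).mpr hqp.symm)
      obtain ⟨e, he⟩ := exists_pow_eq_self_of_coprime hcop
      exact hwZ (he ▸ Z.pow_mem hwp e)
  set Zp := Z ⊓ (P : Subgroup G) with hZpdef
  have hZpT : Zp ≤ T := inf_le_inf (center_le_cen x) le_rfl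
  have hTlt : Nat.card Zp < Nat.card T := by
    by_contra! hle
    have := Subgroup.eq_of_le_of_card_ge hZpT hle
    exact hxZ (this ▸ (⟨self_mem_cen x, hxP⟩ : x ∈ T) : x ∈ Zp).1
  obtain ⟨g₀, hg₀⟩ : ∃ g₀, ∀ z : G, z⁻¹ * g₀ * z ∉ cen x := by
    by_contra! hall
    exact hxZ (cen_eq_top_iff.mp (eq_top_of_conj_cover hall))
  have hg₀Z : g₀ ∉ Z := fun h' => hg₀ 1 (by simpa using center_le_cen x h')
  have hbig : ∀ f : G, f ∉ Z → ∃ t : G, Nat.card T ≤ Nat.card ↥(cen (t * f * t⁻¹) ⊓ (P : Subgroup G)) := by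
    intro f hf
    obtain ⟨t, ht⟩ := exists_conj_inf p P f
    refine ⟨t, le_trans ?_ ht⟩
    rw [hcard f x hf hxZ]
    exact card_inf_le_ordProj P.2
  obtain ⟨t, ht⟩ := hbig g₀ hg₀Z
  set v := t * g₀ * t⁻¹
  have hvA : v ∉ cen x := fun h' => hg₀ t⁻¹ (by simpa [v, mul_assoc] using h')
  have hvZ : v ∉ Z := fun h' => hg₀Z (mem_center_conj_iff.mp h')
  set T' := cen v ⊓ (P : Subgroup G) with hT'def
  have hinf : T ⊓ T' = Zp := by
    refine le_antisymm ?_ (le_inf hZpT (inf_le_inf (center_le_cen v) le_rfl))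
    rintro z ⟨⟨hz1, hz2⟩, hz3, -⟩
    refine ⟨?_, hz2⟩
    by_contra hzZ
    exact hvA ((hceq x z hxZ hzZ hz1).symm.trans (hceq v z hvZ hzZ hz3) ▸ self_mem_cen v)
  have hT' : Nat.card T' ≤ p * Nat.card Zp := by
    have h1 := Subgroup.relIndex_mul_relIndex ⊥ (T ⊓ T') T' bot_le inf_le_right
    rw [Subgroup.relIndex_bot_left, Subgroup.relIndex_bot_left, Subgroup.inf_relIndex_right,
      hinf] at h1
    have h2 := Subgroup.relIndex_mul_relIndex ⊥ T (P : Subgroup G) bot_le inf_le_right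
    rw [Subgroup.relIndex_bot_left, Subgroup.relIndex_bot_left] at h2
    have h3 : T.relIndex T' ≤ T.relIndex (P : Subgroup G) :=
      Subgroup.relIndex_le_of_le_right inf_le_right Subgroup.index_ne_zero_of_finite
    have h4 : T.relIndex (P : Subgroup G) ≤ p := by
      refine Nat.le_of_mul_le_mul_left ?_ (Nat.card_pos (α := T))
      rw [h2, mul_comm]
      exact hPT
    rw [← h1, mul_comm]
    exact Nat.mul_le_mul_right _ (h3.trans h4)
  set π := QuotientGroup.mk' Z with hπdef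
  have hPπ : Nat.card ((P : Subgroup G).map π) ≤ p ^ 2 := by
    have h1 := Subgroup.relIndex_mul_relIndex ⊥ Zp (P : Subgroup G) bot_le inf_le_right
    rw [Subgroup.relIndex_bot_left, Subgroup.relIndex_bot_left, Subgroup.inf_relIndex_right] at h1
    rw [← Subgroup.relIndex_ker, hπdef, QuotientGroup.ker_mk']
    refine Nat.le_of_mul_le_mul_left ?_ (Nat.card_pos (α := Zp))
    rw [h1]
    calc Nat.card P ≤ p * Nat.card T := hPT
      _ ≤ p * (p * Nat.card Zp) := Nat.mul_le_mul_left _ (ht.trans hT')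
      _ = Nat.card Zp * p ^ 2 := by ring
  have hcomm : IsMulCommutative ((P : Subgroup G).map π) := by
    obtain ⟨i, hi⟩ := (P.2.map π).exists_card_eq
    rw [hi] at hPπ
    have hi2 : i ≤ 2 := (Nat.pow_le_pow_iff_right hp.one_lt).mp hPπ
    by_cases h2 : i = 2
    · exact IsPGroup.isMulCommutative_of_card_eq_prime_sq (p := p) (by rw [hi, h2])
    · haveI : IsCyclic ((P : Subgroup G).map π) := isCyclic_of_card_dvd_prime (p := p) (by
        rw [hi]; exact (pow_dvd_pow p (by omega : i ≤ 1)).trans (by rw [pow_one]))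
      exact IsCyclic.isMulCommutative
  obtain ⟨s, hs⟩ := hbig g hg
  set u0 := s * g * s⁻¹
  have hu0 : u0 ∉ Z := fun h' => hg (mem_center_conj_iff.mp h')
  obtain ⟨u, hu, huZ⟩ : ∃ u ∈ cen u0 ⊓ (P : Subgroup G), u ∉ Z := by
    by_contra! hall
    have : cen u0 ⊓ (P : Subgroup G) ≤ Zp := fun z hz => ⟨hall z hz, hz.2⟩
    have := Subgroup.card_le_of_le this
    omega
  have hnorm : (P : Subgroup G) ≤ Subgroup.normalizer ((cen u0 : Subgroup G) : Set G) := by
    intro r hr
    rw [← hceq u0 u hu0 huZ hu.1]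
    refine mem_normalizer_of_central_mod (c := r * u * r⁻¹ * u⁻¹) ?_ (by group)
    rw [← QuotientGroup.eq_one_iff, ← QuotientGroup.mk'_apply, ← hπdef, map_mul, map_mul, map_mul,
      map_inv, map_inv]
    have := congrArg Subtype.val (hcomm.is_comm.comm
      ⟨π r, Subgroup.mem_map_of_mem π hr⟩ ⟨π u, Subgroup.mem_map_of_mem π hu.2⟩)
    simp only [Subgroup.coe_mul] at this
    rw [this]
    group
  refine ⟨(P : Subgroup G).map (MulAut.conj s⁻¹).toMonoidHom, ?_, ?_⟩
  · rintro _ ⟨r, hr, rfl⟩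
    have hr' := mem_normalizer_cen.mp (hnorm hr)
    rw [mem_normalizer_cen]
    have h1 := congrArg (Subgroup.map (MulAut.conj s⁻¹).toMonoidHom) hr'
    rw [map_cen, map_cen] at h1
    convert h1 using 2
    · simp [u0, mul_assoc]
    · simp [u0, mul_assoc]
  · exact Subgroup.card_map_of_injective (MulAut.conj s⁻¹).injective

/-- **Two class sizes.** Some prime `p` has all elements of other prime orders central. -/
theorem exists_prime_central (hn : 1 < n) (h : Equi (⊤ : Subgroup G) n)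
    (hex : ∃ x : G, x ∉ Subgroup.center G) :
    ∃ p : ℕ, p.Prime ∧ ∀ y : G, ∀ r j : ℕ, r.Prime → r ≠ p → orderOf y = r ^ j →
      y ∈ Subgroup.center G := by
  set Z := Subgroup.center G
  by_cases hA : ∃ a : G, ∃ p k : ℕ, p.Prime ∧ a ∉ Z ∧ orderOf a = p ^ k ∧
      ¬ Mixed (⊤ : Subgroup G) a p
  · obtain ⟨a, p, k, hp, ha, hak, hmix⟩ := hA
    haveI := Fact.mk hp
    refine ⟨p, hp, fun y r j hr hrp hyj => ?_⟩
    by_contra hy
    set π := QuotientGroup.mk' Z with hπ
    have hV : IsPGroup p ((cen a).map π) := Setup.map_mk_pgroup fun z hz r i hr hrp hzi => by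
      by_contra hz'
      exact hmix ⟨z, Subgroup.mem_top z, hz', hz, r, i, hr, hrp, hzi⟩
    have hidx : ∀ x : G, x ∉ Z → ((cen x).map π).index = n := fun x hx => by
      rw [Subgroup.index_map_eq _ (QuotientGroup.mk'_surjective Z)
        (by rw [QuotientGroup.ker_mk']; exact center_le_cen x), h x (Subgroup.mem_top x) hx]
    obtain ⟨i, hi⟩ := hV.exists_card_eq
    have hW : IsPGroup p ((cen y).map π) := by
      refine IsPGroup.of_card (n := i) ?_
      rw [← hi]
      have h1 := Subgroup.card_mul_index ((cen y).map π)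
      rw [hidx y hy, ← Subgroup.card_mul_index ((cen a).map π), hidx a ha] at h1
      exact mul_right_cancel₀ (by omega : n ≠ 0) h1
    obtain ⟨l, hl⟩ := IsPGroup.iff_orderOf.mp hW
      ⟨π y, Subgroup.mem_map_of_mem π (self_mem_cen y)⟩
    rw [← Subgroup.orderOf_coe] at hl
    have hdvd : p ^ l ∣ r ^ j := hl ▸ hyj ▸ orderOf_map_dvd π y
    rcases Nat.eq_zero_or_pos l with rfl | hlpos
    · rw [pow_zero, orderOf_eq_one_iff] at hl
      exact hy ((QuotientGroup.eq_one_iff y).mp hl)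
    · exact hrp ((Nat.prime_dvd_prime_iff_eq hp hr).mp
        (hp.dvd_of_dvd_pow ((dvd_pow_self p hlpos.ne').trans hdvd))).symm
  push Not at hA
  exfalso
  have hab : ∀ x : G, x ∉ Z → ∀ y ∈ cen x, cen x ≤ cen y := by
    intro x hx y hy
    obtain ⟨a, ha1, ha, haeq, -, p, k, hp, hak⟩ := h.exists_part (Subgroup.mem_top x) hx
    rw [← haeq] at hy ⊢
    exact h.abelian hp ha1 ha hak (hA a p k hp ha hak) (Subgroup.mem_top y) hy
  have hceq : ∀ x y : G, x ∉ Z → y ∉ Z → y ∈ cen x → cen y = cen x := fun x y hx hy hyx =>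
    (h.cen_eq_of_le (Subgroup.mem_top x) hx (Subgroup.mem_top y) hy (hab x hx y hyx)).symm
  have hcentral : ∀ r : ℕ, [Fact r.Prime] → ¬ r ∣ n → ∀ R : Sylow r G, (R : Subgroup G) ≤ Z := by
    intro r hrF hrn R y hyR
    by_contra hy
    refine hy (cen_eq_top_iff.mp (eq_top_of_conj_cover fun f => ?_))
    by_cases hf : f ∈ Z
    · exact ⟨1, by simpa using center_le_cen y hf⟩
    obtain ⟨t, ht⟩ := exists_conj_inf r R f
    have hfull : cen (t * f * t⁻¹) ⊓ (R : Subgroup G) = R := by
      refine Subgroup.eq_of_le_of_card_ge inf_le_right (le_trans ?_ ht)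
      rw [R.card_eq_multiplicity, ← Subgroup.card_mul_index (cen f),
        h f (Subgroup.mem_top f) hf, Nat.factorization_mul Nat.card_pos.ne' (by omega)]
      simp [Nat.factorization_eq_zero_of_not_dvd hrn]
    refine ⟨t⁻¹, ?_⟩
    have hyc : y ∈ cen (t * f * t⁻¹) := (hfull.symm ▸ hyR : y ∈ cen (t * f * t⁻¹) ⊓ _).1
    have := hceq _ y (fun h' => hf (mem_center_conj_iff.mp h')) hy hyc
    rw [this]
    simpa using self_mem_cen (t * f * t⁻¹)
  have hnormal : ∀ x : G, x ∉ Z → (cen x).Normal := by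
    intro x hx
    rw [← Subgroup.normalizer_eq_top_iff, ← Subgroup.index_eq_one]
    refine Nat.eq_one_iff_not_exists_prime_dvd.mpr fun r hr hdvd => ?_
    haveI := Fact.mk hr
    obtain ⟨R⟩ := (inferInstance : Nonempty (Sylow r G))
    by_cases hrn : r ∣ n
    · obtain ⟨K, hK, hKc⟩ := normalizer_step h hab hrn R
        (fun a ha k hak => hA a r k hr ha hak) hx
      have h1 : K.index = (R : Subgroup G).index := by
        have := Subgroup.card_mul_index K
        rw [hKc, ← Subgroup.card_mul_index (R : Subgroup G)] at this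
        exact mul_left_cancel₀ Nat.card_pos.ne' this
      exact R.not_dvd_index (h1 ▸ hdvd.trans (Subgroup.index_dvd_of_le hK))
    · exact R.not_dvd_index (hdvd.trans (Subgroup.index_dvd_of_le
        ((hcentral r hrn R).trans ((center_le_cen x).trans Subgroup.le_normalizer))))
  obtain ⟨x₀, hx₀⟩ := hex
  set p := n.minFac
  have hp : p.Prime := Nat.minFac_prime (by omega)
  haveI := Fact.mk hp
  obtain ⟨P⟩ := (inferInstance : Nonempty (Sylow p G))
  have hPnot : ∀ x : G, x ∉ Z → ¬ (P : Subgroup G) ≤ cen x := by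
    intro x hx hle
    have := Subgroup.index_dvd_of_le hle
    rw [h x (Subgroup.mem_top x) hx] at this
    exact P.not_dvd_index ((Nat.minFac_dvd n).trans this)
  obtain ⟨u₁, hu₁P, hu₁⟩ : ∃ u ∈ (P : Subgroup G), u ∉ Z := by
    by_contra! hall
    exact hPnot x₀ hx₀ (fun z hz => center_le_cen x₀ (hall z hz))
  obtain ⟨k, hk⟩ := IsPGroup.iff_orderOf.mp P.2 ⟨u₁, hu₁P⟩
  rw [← Subgroup.orderOf_coe] at hk
  obtain ⟨w, -, hw, -, q, j, hq, hqp, hwj⟩ := hA u₁ p k hp hu₁ hk
  refine hPnot w hw fun u hu => ?_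
  by_cases huZ : u ∈ Z
  · exact center_le_cen w huZ
  obtain ⟨i, hi⟩ := IsPGroup.iff_orderOf.mp P.2 ⟨u, hu⟩
  rw [← Subgroup.orderOf_coe] at hi
  have hcop : (orderOf u).Coprime (orderOf w) := by
    rw [hi, hwj]; exact Nat.Coprime.pow _ _ ((Nat.coprime_primes hp hq).mpr hqp.symm)
  set c := u * w * u⁻¹ * w⁻¹ with hc
  have hc1 : c ∈ cen u := by
    haveI := hnormal u huZ
    have h1 := (cen u).mul_mem (self_mem_cen u)
      (Subgroup.Normal.conj_mem inferInstance _ ((cen u).inv_mem (self_mem_cen u)) w)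
    simpa [hc, mul_assoc] using h1
  have hc2 : c ∈ cen w := by
    haveI := hnormal w hw
    exact (cen w).mul_mem (Subgroup.Normal.conj_mem inferInstance _ (self_mem_cen w) u)
      ((cen w).inv_mem (self_mem_cen w))
  by_cases hcZ : c ∈ Z
  · have hcu : Commute c u⁻¹ := (Subgroup.mem_center_iff.mp hcZ _).symm
    have hcw : Commute c w := (Subgroup.mem_center_iff.mp hcZ _).symm
    have h1 : c ^ orderOf w = 1 := by
      have : (c * w) ^ orderOf w = 1 := by
        rw [show c * w = u * w * u⁻¹ by rw [hc]; group, conj_pow, pow_orderOf_eq_one, mul_one,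
          mul_inv_cancel]
      rwa [hcw.mul_pow, pow_orderOf_eq_one, mul_one] at this
    have h2 : c ^ orderOf u = 1 := by
      have : (u⁻¹ * c) ^ orderOf u = 1 := by
        rw [show u⁻¹ * c = w * u⁻¹ * w⁻¹ by rw [hc]; group, conj_pow, inv_pow, pow_orderOf_eq_one,
          inv_one, mul_one, mul_inv_cancel]
      rwa [hcu.symm.mul_pow, inv_pow, pow_orderOf_eq_one, inv_one, one_mul] at this
    have h3 : orderOf c = 1 := Nat.eq_one_of_dvd_coprimes hcop
      (orderOf_dvd_of_pow_eq_one h2) (orderOf_dvd_of_pow_eq_one h1)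
    rw [orderOf_eq_one_iff, hc] at h3
    rw [mem_cen]
    exact mul_inv_eq_one.mp (by rw [← h3]; group)
  · exact ((hceq u c huZ hcZ hc1).symm.trans (hceq w c hw hcZ hc2)) ▸ self_mem_cen u

end CfsgLib.TwoClassSizes
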