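import Cfsg.Agent.Lib.TwoClassSizes.Normal
import Cfsg.Agent.Lib.TwoClassSizes.Structure
import Cfsg.Agent.Lib.Critical.Basic

/-!
A normal subgroup containing a noncentral Sylow `r`-subgroup, whose noncentral elements have one
class size, is an `r`-group modulo its centre.
-/

set_option autoImplicit false
set_option linter.style.haveILetI false

open scoped Pointwise

namespace CfsgLib.TwoClassSizes

open CfsgLib.CentMaxNormal

variable {G : Type*} [Group G] [Finite G] {r : ℕ} [Fact r.Prime] {N : Subgroup G} [N.Normal]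
  {m : ℕ} (R : Sylow r G)

/-- The case of class size prime to `r`: the subgroup is abelian. -/
theorem comm_of_not_dvd (hE : Equi N m) (hRN : (R : Subgroup G) ≤ N)
    {w : G} {q j : ℕ} (hq : q.Prime) (hqr : q ≠ r) (hwN : w ∈ N) (hw : w ∉ Subgroup.center G)
    (hwj : orderOf w = q ^ j) (hR : ¬ (R : Subgroup G) ≤ Subgroup.center G) (hrm : ¬ r ∣ m) :
    ∀ a ∈ N, ∀ b ∈ N, a * b = b * a := by
  have hr : r.Prime := Fact.out
  set Z := Subgroup.center G
  have hfull : ∀ a ∈ N, a ∉ Z → ∃ g : G, (R : Subgroup G) ≤ cen (g * a * g⁻¹) := by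
    intro a ha ha'
    obtain ⟨g, hg⟩ := exists_conj_inf r R a
    refine ⟨g, inf_eq_right.mp (Subgroup.eq_of_le_of_card_ge inf_le_right (le_trans ?_ hg))⟩
    rw [R.card_eq_multiplicity, ← Subgroup.card_mul_index (cen a), hE a ha ha',
      Nat.factorization_mul Nat.card_pos.ne' (fun h0 => hrm (by rw [h0]; exact dvd_zero r))]
    simp [Nat.factorization_eq_zero_of_not_dvd hrm]
  have hNc : ∀ (g : G), ∀ a ∈ N, g * a * g⁻¹ ∈ N := fun g a ha =>
    Subgroup.Normal.conj_mem inferInstance a ha g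
  obtain ⟨g₀, hg₀⟩ := hfull w hwN hw
  set w' := g₀ * w * g₀⁻¹
  have hw'o : orderOf w' = q ^ j := (MulEquiv.orderOf_eq (MulAut.conj g₀) w).trans hwj
  have hw'N : w' ∈ N := hNc _ _ hwN
  have hw'Z : w' ∉ Z := fun h => hw (mem_center_conj_iff.mp h)
  have hRC : ∀ y ∈ (R : Subgroup G), y ∉ Z → cen y = cen w' := by
    intro y hy hyZ
    obtain ⟨i, hi⟩ := IsPGroup.iff_orderOf.mp R.2 ⟨y, hy⟩
    rw [← Subgroup.orderOf_coe] at hi
    refine hE.coprime_eq (hRN hy) hyZ hw'N hw'Z (mem_cen.mp (hg₀ hy)) ?_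
    rw [hi, hw'o]; exact Nat.Coprime.pow _ _ ((Nat.coprime_primes hr hq).mpr hqr.symm)
  obtain ⟨y₁, hy₁, hy₁Z⟩ : ∃ y ∈ (R : Subgroup G), y ∉ Z := by
    by_contra! hall
    exact hR hall
  have hcenC : ∀ a ∈ N, a ∉ Z → ∃ g : G, cen (g * a * g⁻¹) = cen w' := by
    intro a ha ha'
    obtain ⟨g, hg⟩ := hfull a ha ha'
    refine ⟨g, ?_⟩
    set a' := g * a * g⁻¹
    obtain ⟨b, hbN, hbZ, hbeq, -, p, k, hp, hbk⟩ :=
      hE.exists_part (hNc g a ha) (fun h => ha' (mem_center_conj_iff.mp h))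
    rw [← hbeq] at hg ⊢
    by_cases hpr : p = r
    · subst hpr
      refine hRC b ?_ hbZ
      have hH : IsPGroup p ↥(Subgroup.zpowers b ⊔ (R : Subgroup G)) :=
        (IsPGroup.of_card (n := k) (by rw [Nat.card_zpowers, hbk])).to_sup_of_normal_right' R.2
          (Subgroup.zpowers_le.mpr (Subgroup.mem_normalizer_iff.mpr fun u => by
            constructor
            · intro hu
              rwa [show b * u * b⁻¹ = u by
                rw [(mem_cen.mp (hg hu)).symm, mul_inv_cancel_right]]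
            · intro hu
              have hc := mem_cen.mp (hg hu)
              have : b * u * b⁻¹ = u := by
                have h2 : b * u * b⁻¹ * b = b * (b * u * b⁻¹) := hc
                rw [inv_mul_cancel_right] at h2
                exact (mul_left_cancel h2).symm
              rwa [this] at hu))
      have := R.is_maximal' hH le_sup_right
      exact this ▸ Subgroup.mem_sup_left (Subgroup.mem_zpowers b)
    · rw [← hRC y₁ hy₁ hy₁Z]
      obtain ⟨i, hi⟩ := IsPGroup.iff_orderOf.mp R.2 ⟨y₁, hy₁⟩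
      rw [← Subgroup.orderOf_coe] at hi
      refine hE.coprime_eq hbN hbZ (hRN hy₁) hy₁Z (mem_cen.mp (hg hy₁)).symm ?_
      rw [hi, hbk]; exact Nat.Coprime.pow _ _ ((Nat.coprime_primes hp hr).mpr hpr)
  have hstab : ∀ k ∈ Subgroup.normalizer ((R : Subgroup G) : Set G),
      (cen w').map (MulAut.conj k).toMonoidHom = cen w' := by
    intro k hk
    rw [← hRC y₁ hy₁ hy₁Z, map_cen,
      hRC _ ((Subgroup.mem_normalizer_iff.mp hk y₁).mp hy₁)
        (fun h => hy₁Z (mem_center_conj_iff.mp h)), hRC y₁ hy₁ hy₁Z]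
  have hNC : N ≤ cen w' := by
    by_contra hnot
    obtain ⟨v, hv, hvall⟩ := exists_avoid hnot
    have hvZ : v ∉ Z := fun h => hvall 1 N.one_mem (by simpa using center_le_cen w' h)
    obtain ⟨g, hg⟩ := hcenC v hv hvZ
    obtain ⟨k, hk, n, hn, hkn⟩ := Subgroup.mem_sup_of_normal_right.mp
      (Sylow.normalizer_sup_eq_top' R hRN ▸ Subgroup.mem_top g :
        g ∈ Subgroup.normalizer ((R : Subgroup G) : Set G) ⊔ N)
    refine hvall n hn ?_
    have h1 : g * v * g⁻¹ ∈ cen w' := hg ▸ self_mem_cen _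
    rw [← hstab k hk, Subgroup.mem_map] at h1
    obtain ⟨z, hz, hze⟩ := h1
    have : z = n * v * n⁻¹ := by
      simp only [MulEquiv.coe_toMonoidHom, MulAut.conj_apply] at hze
      calc z = k⁻¹ * (k * z * k⁻¹) * k := by group
        _ = n * v * n⁻¹ := by rw [hze, ← hkn]; group
    exact this ▸ hz
  intro a ha b hb
  by_cases haZ : a ∈ Z
  · exact (Subgroup.mem_center_iff.mp haZ b).symm
  obtain ⟨g, hg⟩ := hcenC a ha haZ
  have := mem_cen_conj.mp (hg.symm ▸ hNC (hNc g b hb) : g * b * g⁻¹ ∈ cen (g * a * g⁻¹))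
  rw [show g⁻¹ * (g * b * g⁻¹) * g = b by group] at this
  exact (mem_cen.mp this).symm

/-- Index of the part in `N` of a mixed centralizer, and the bound on the Sylow parts. -/
theorem mixed_bound (hE : Equi N m) (hRN : (R : Subgroup G) ≤ N) (hrm : r ∣ m) {τ : ℕ}
    (hτ : ∀ a ∈ N, a ∉ Subgroup.center G → r ^ (Nat.card (cen a)).factorization r = τ) {x : G}
    (hx : x ∈ (R : Subgroup G)) (hxZ : x ∉ Subgroup.center G) (hxr : x ^ r ∈ Subgroup.center G)
    (hxc : ∀ u ∈ (R : Subgroup G), ∃ c ∈ Subgroup.center G, u * x * u⁻¹ = c * x)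
    (hmix : Mixed N x r) :
    Nat.card R ≤ r * Nat.card ↥(cen x ⊓ (R : Subgroup G)) ∧
      τ ≤ r * Nat.card ↥(Subgroup.center G ⊓ (R : Subgroup G)) := by
  have hr : r.Prime := Fact.out
  set Z := Subgroup.center G
  obtain ⟨i, hi⟩ := IsPGroup.iff_orderOf.mp R.2 ⟨x, hx⟩
  rw [← Subgroup.orderOf_coe] at hi
  have hab : ∀ v ∈ N, v ∈ cen x → cen x ≤ cen v := fun v hv hvx =>
    hE.abelian hr (hRN hx) hxZ hi hmix hv hvx
  obtain ⟨w, hwN, hwZ, hwx, q, j, hq, hqr, hwj⟩ := hmix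
  have hnorm : (R : Subgroup G) ≤ Subgroup.normalizer ((cen x : Subgroup G) : Set G) := fun u hu => by
    obtain ⟨c, hc, hcu⟩ := hxc u hu
    exact mem_normalizer_of_central_mod hc hcu
  have hinfn : ∀ (S : Subgroup G), (∀ u ∈ (R : Subgroup G), ∀ y, y ∈ S ↔ u * y * u⁻¹ ∈ S) →
      (R : Subgroup G) ≤ Subgroup.normalizer ((cen x ⊓ S : Subgroup G) : Set G) := by
    intro S hS u hu
    refine Subgroup.mem_normalizer_iff.mpr fun y => ?_
    have h1 := Subgroup.mem_normalizer_iff.mp (hnorm hu) y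
    exact ⟨fun h => ⟨h1.mp h.1, (hS u hu y).mp h.2⟩, fun h => ⟨h1.mpr h.1, (hS u hu y).mpr h.2⟩⟩
  have hwp : w ^ r ∉ Z := by
    intro hwr
    have hcop : r.Coprime (orderOf w) := by
      rw [hwj]; exact Nat.Coprime.pow_right _ ((Nat.coprime_primes hr hq).mpr hqr.symm)
    obtain ⟨e, he⟩ := exists_pow_eq_self_of_coprime hcop
    exact hwZ (he ▸ Z.pow_mem hwr e)
  have hT : Nat.card R ≤ r * Nat.card ↥(cen x ⊓ (R : Subgroup G)) := by
    refine card_le_mul_of_fixed (V := cen x ⊓ N) R.2 inf_le_right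
      (fun a ha b hb => mem_cen.mp (hab b hb.2 hb.1 ha.1))
      (fun t ht v hv => hab v hv.2 hv.1 ht.1)
      (hinfn N fun u _ y => ⟨fun h => Subgroup.Normal.conj_mem inferInstance _ h u, fun h => by
        have := Subgroup.Normal.conj_mem inferInstance _ h u⁻¹
        rwa [show u⁻¹ * (u * y * u⁻¹) * u⁻¹⁻¹ = y by group] at this⟩)
      (hinfn (R : Subgroup G) fun u hu y =>
        ⟨fun h => R.1.mul_mem (R.1.mul_mem hu h) (R.1.inv_mem hu), fun h => by
          have := R.1.mul_mem (R.1.mul_mem (R.1.inv_mem hu) h) hu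
          rwa [show u⁻¹ * (u * y * u⁻¹) * u = y by group] at this⟩)
      (fun u hu => ?_) (fun u hu huT v hv huv => ?_) ⟨w, ⟨hwx, hwN⟩, hwp⟩
    · obtain ⟨c, hc, hcu⟩ := hxc u hu
      exact ⟨pow_mem_cen_of_central_mod hc hcu hxr, R.1.pow_mem hu r⟩
    · exact hE.fixed_central (hRN hx) hxZ hab (fun hux => huT ⟨hux, hu⟩) hv.2 hv.1 huv
  refine ⟨hT, ?_⟩
  by_contra! hlt
  have hTτ : τ ≤ Nat.card ↥(cen x ⊓ (R : Subgroup G)) :=
    hτ x (hRN hx) hxZ ▸ ordProj_le_card_inf R hnorm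
  -- two centralizers with large intersection with `R` meet outside the centre
  have key : ∀ v : G, τ ≤ Nat.card ↥(cen v ⊓ (R : Subgroup G)) →
      ∃ z ∈ (R : Subgroup G), z ∉ Z ∧ z ∈ cen x ∧ z ∈ cen v := by
    intro v hv
    by_contra! hall
    have hle : (cen x ⊓ (R : Subgroup G)) ⊓ (cen v ⊓ (R : Subgroup G)) ≤ Z ⊓ (R : Subgroup G) := by
      rintro z ⟨⟨hz1, hz2⟩, hz3, -⟩
      refine ⟨?_, hz2⟩
      by_contra hzZ
      exact hall z hz2 hzZ hz1 hz3
    have := card_le_mul_of_inf inf_le_right inf_le_right hle hT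
    omega
  have hzx : ∀ z ∈ (R : Subgroup G), z ∉ Z → z ∈ cen x → cen z = cen x := fun z hz hzZ hzc =>
    (hE.cen_eq_of_le (hRN hx) hxZ (hRN hz) hzZ (hab z (hRN hz) hzc)).symm
  have hstab : ∀ k ∈ Subgroup.normalizer ((R : Subgroup G) : Set G),
      (cen x).map (MulAut.conj k).toMonoidHom = cen x := by
    intro k hk
    rw [map_cen]
    have hx' : k * x * k⁻¹ ∈ (R : Subgroup G) := (Subgroup.mem_normalizer_iff.mp hk x).mp hx
    have hx'Z : k * x * k⁻¹ ∉ Z := fun h => hxZ (mem_center_conj_iff.mp h)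
    have hbig : τ ≤ Nat.card ↥(cen (k * x * k⁻¹) ⊓ (R : Subgroup G)) := by
      refine hTτ.trans (le_trans (le_of_eq ?_) (Subgroup.card_le_of_le
        (?_ : (cen x ⊓ (R : Subgroup G)).map (MulAut.conj k).toMonoidHom ≤ _)))
      · rw [Subgroup.card_map_of_injective (MulAut.conj k).injective]
      · rintro _ ⟨u, hu, rfl⟩
        exact ⟨map_cen k x ▸ Subgroup.mem_map_of_mem _ hu.1,
          (Subgroup.mem_normalizer_iff.mp hk u).mp hu.2⟩
    obtain ⟨z, hz, hzZ, hz1, hz2⟩ := key _ hbig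
    rw [← hzx z hz hzZ hz1]
    refine hE.cen_eq_of_le (hRN hx') hx'Z (hRN hz) hzZ fun y hy => ?_
    have h1 := hab _ (Subgroup.Normal.conj_mem inferInstance _ (hRN hz) k⁻¹)
      (by simpa using mem_cen_conj.mp hz2) (mem_cen_conj.mp hy)
    have h2 := (mem_cen_conj (g := k⁻¹) (x := z)).mp (by simpa [mul_assoc] using h1)
    simpa [mul_assoc] using h2
  obtain ⟨v, hv, hvall⟩ := exists_avoid (N := N) (C := cen x) (fun h => by
    have := Subgroup.index_dvd_of_le ((hRN).trans h : (R : Subgroup G) ≤ cen x)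
    rw [hE x (hRN hx) hxZ] at this
    exact R.not_dvd_index (hrm.trans this))
  have hvZ : v ∉ Z := fun h => hvall 1 N.one_mem (by simpa using center_le_cen x h)
  obtain ⟨g, hg⟩ := exists_conj_inf r R v
  rw [hτ v hv hvZ] at hg
  obtain ⟨z, hz, hzZ, hz1, hz2⟩ := key _ hg
  have hgv : g * v * g⁻¹ ∈ cen x := hzx z hz hzZ hz1 ▸ mem_cen_comm.mp hz2
  obtain ⟨k, hk, n, hn, hkn⟩ := Subgroup.mem_sup_of_normal_right.mp
    (Sylow.normalizer_sup_eq_top' R hRN ▸ Subgroup.mem_top g :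
      g ∈ Subgroup.normalizer ((R : Subgroup G) : Set G) ⊔ N)
  refine hvall n hn ?_
  rw [← hstab k hk, Subgroup.mem_map] at hgv
  obtain ⟨u, hu, hue⟩ := hgv
  have : u = n * v * n⁻¹ := by
    simp only [MulEquiv.coe_toMonoidHom, MulAut.conj_apply] at hue
    calc u = k⁻¹ * (k * u * k⁻¹) * k := by group
      _ = n * v * n⁻¹ := by rw [hue, ← hkn]; group
  exact this ▸ hu

end CfsgLib.TwoClassSizes
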